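import Mathlib
import Cfsg.Agent.StC.Au
import Cfsg.Agent.Rec.B6

/-! Generated by tools/rec: the centraliser of a four-group in 2 × Aut(M12) -/

set_option autoImplicit false
set_option maxRecDepth 100000
set_option linter.unusedVariables false
set_option exponentiation.threshold 100000

namespace Cfsg.Agent.StC

open Cfsg.Agent.Spor Cfsg.Agent.Rec

universe u

def relS : List (List ℕ) :=
  [[0, 0],
   [1, 2],
   [2, 1],
   [3, 4],
   [4, 3],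
   [5, 5],
   [6, 6],
   [7, 7],
   [1, 1, 1, 1],
   [3, 3, 3, 3],
   [1, 3, 2, 4],
   [5, 1, 5, 1],
   [5, 3, 5, 3],
   [5, 6, 5, 6],
   [6, 1, 6, 2],
   [6, 3, 6, 3, 1],
   [7, 1, 7, 4, 4, 2],
   [7, 3, 7, 3, 2, 2],
   [7, 5, 7, 5],
   [7, 6, 7, 6, 5],
   [0, 1, 0, 2],
   [0, 3, 0, 4],
   [0, 5, 0, 5],
   [0, 6, 0, 6],
   [0, 7, 0, 7]]

def relB : List (List ℕ) :=
  [[0, 0],
   [1, 2],
   [2, 1],
   [3, 4],
   [4, 3],
   [5, 5],
   [6, 6],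
   [7, 7],
   [8, 9],
   [9, 8],
   [1, 1, 1, 1],
   [3, 3, 3, 3],
   [1, 3, 2, 4],
   [5, 1, 5, 1],
   [5, 3, 5, 3],
   [5, 6, 5, 6],
   [6, 1, 6, 2],
   [6, 3, 6, 3, 1],
   [8, 8, 8],
   [8, 1, 9, 4, 5, 6, 4],
   [8, 5, 9, 6],
   [8, 6, 9, 1, 1, 5, 6],
   [8, 3, 3, 9, 2, 5],
   [5, 3, 1, 8, 5, 3, 1, 8],
   [7, 1, 7, 4, 4, 2],
   [7, 3, 7, 3, 2, 2],
   [7, 5, 7, 5],
   [7, 6, 7, 6, 5],
   [7, 8, 7, 8, 5, 1],
   [0, 1, 0, 2],
   [0, 3, 0, 4],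
   [0, 5, 0, 5],
   [0, 6, 0, 6],
   [0, 8, 0, 9],
   [0, 7, 0, 7]]

def rel0 : List (List ℕ) :=
  [[0, 0],
   [1, 2],
   [2, 1],
   [3, 4],
   [4, 3],
   [5, 5],
   [6, 6],
   [7, 7],
   [8, 9],
   [9, 8],
   [10, 11],
   [11, 10],
   [1, 1, 1, 1],
   [3, 3, 3, 3],
   [1, 3, 2, 4],
   [5, 1, 5, 1],
   [5, 3, 5, 3],
   [5, 6, 5, 6],
   [6, 1, 6, 2],
   [6, 3, 6, 3, 1],
   [8, 8, 8],
   [8, 1, 9, 4, 5, 6, 4],
   [8, 5, 9, 6],
   [8, 6, 9, 1, 1, 5, 6],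
   [8, 3, 3, 9, 2, 5],
   [5, 3, 1, 8, 5, 3, 1, 8],
   [7, 1, 7, 4, 4, 2],
   [7, 3, 7, 3, 2, 2],
   [7, 5, 7, 5],
   [7, 6, 7, 6, 5],
   [7, 8, 7, 8, 5, 1],
   [7, 10, 7, 11],
   [10, 10, 10],
   [10, 1, 11, 4],
   [10, 3, 11, 3, 1],
   [10, 5, 11, 5],
   [6, 10, 6, 10],
   [0, 1, 0, 2],
   [0, 3, 0, 4],
   [0, 5, 0, 5],
   [0, 6, 0, 6],
   [0, 8, 0, 9],
   [0, 10, 0, 11],
   [0, 7, 0, 7]]

noncomputable def tS_rels : LT :=
(.node (.node (.node (.node (.node (.leaf [])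
 (.leaf [nat_lit 6,nat_lit 3,nat_lit 6,nat_lit 3,nat_lit 1])
) (.node (.leaf [nat_lit 7,nat_lit 7])
 (.leaf [nat_lit 0,nat_lit 6,nat_lit 0,nat_lit 6])
)) (.node (.node (.leaf [nat_lit 3,nat_lit 4])
 (.leaf [nat_lit 7,nat_lit 6,nat_lit 7,nat_lit 6,nat_lit 5])
) (.leaf [nat_lit 5,nat_lit 1,nat_lit 5,nat_lit 1])
)) (.node (.node (.node (.leaf [nat_lit 1,nat_lit 2])
 (.leaf [nat_lit 7,nat_lit 3,nat_lit 7,nat_lit 3,nat_lit 2,nat_lit 2])
) (.leaf [nat_lit 3,nat_lit 3,nat_lit 3,nat_lit 3])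
) (.node (.node (.leaf [nat_lit 5,nat_lit 5])
 (.leaf [nat_lit 0,nat_lit 3,nat_lit 0,nat_lit 4])
) (.leaf [nat_lit 5,nat_lit 6,nat_lit 5,nat_lit 6])
))) (.node (.node (.node (.node (.leaf [nat_lit 0,nat_lit 0])
 (.leaf [nat_lit 7,nat_lit 1,nat_lit 7,nat_lit 4,nat_lit 4,nat_lit 2])
) (.node (.leaf [nat_lit 1,nat_lit 1,nat_lit 1,nat_lit 1])
 (.leaf [nat_lit 0,nat_lit 7,nat_lit 0,nat_lit 7])
)) (.node (.node (.leaf [nat_lit 4,nat_lit 3])
 (.leaf [nat_lit 0,nat_lit 1,nat_lit 0,nat_lit 2])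
) (.leaf [nat_lit 5,nat_lit 3,nat_lit 5,nat_lit 3])
)) (.node (.node (.node (.leaf [nat_lit 2,nat_lit 1])
 (.leaf [nat_lit 7,nat_lit 5,nat_lit 7,nat_lit 5])
) (.leaf [nat_lit 1,nat_lit 3,nat_lit 2,nat_lit 4])
) (.node (.node (.leaf [nat_lit 6,nat_lit 6])
 (.leaf [nat_lit 0,nat_lit 5,nat_lit 0,nat_lit 5])
) (.leaf [nat_lit 6,nat_lit 1,nat_lit 6,nat_lit 2])
))))
noncomputable def tS_hws : LT :=
(.leaf [])

noncomputable def tS_inv : ℕ → ℕ := getP (nat_lit 8) (nat_lit 255) (nat_lit 0x706050304010200)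

noncomputable def tS_t : BT :=
(.node (.node (.node (.node (.leaf (nat_lit 0x10bff3f800ffeff08bef37832f9cdd08be037052f60db0cbd336852f30d910bc736052ef8d714bb835852ec4d50cbaa35012e88d300b9a34862e44d10cb8c34022e0ccf04b7c33802dd0cd08b6f33062d98cb14b6132852d6cc918b5132042d38c714b4731862cf4c518b3731052cd0c310b2f30842ca4c108b2130000fbefd003e7bf000f82fb003d8be800f4ef9003ccbe000f1ef7003bebd800ee2f5003b1bd000eaaf3003a2bc800e6af100391bc000e32ef00383bb800df2ed00374bb000dbeeb00366ba800d86e90035bba000d46e70034eb9800d1ee50033db9000cdee300334b8800cbee100329b8000c86df0ca6620c229808214a59204529548014a521fc529347e0ca481f4229107c04a3f1ec028e87a18a361e4628cc7808a311dc328b07608a291d4128987400a231cc3287c7208a1a1c4528507018a0f1bc228306e18a081b4528106c149ff1ac627e86a0c9f71a4627cc68149ef19c527a866109e81945278c64189df18c2277062189d81845275460109d117c527305e109c81742270c5c149be16c326e85a089b3164126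b058009a615c6268c560c9a015462674541499a14c62648521498f14442630501898413c426084e0897d134625d44c1497312c425bc4a0c96a124225944800266afc00982be00259af400956bc00252aec00936ba00248ae400912b80023fadc008eab600236ad4008ceb400231acc008b2b200229ac40089ab000223abc0087eae0021aab400852ac0020faac00832aa00208aa400812a8001ffa9c007eaa6001f7a94007cea4001efa8c007aaa2001e8a840078ea0001dfa7c007729e001d8a74007569c001d1a6c007329a001c8a640070e98001bea5c006ea96001b3a54006b294001a6a4c0068e92001a0a4400676900019aa3c0064a8e0018fa34006328c00184a2c0060a8a0017da24005d68800173a1c005be860016aa140059684148960ac3224c2a088910a41223c280088d09c62228260c8870942220c241888008c521f4221887a084521dc201087507c621c81e1486f074421b41c0886a06c6219c1a1486506442188180c85f05c2217016188590545215c141085404c32144120884e0440212c100009691c0024e46000919140023e440008d90c0022a42000879040020e40000808fc001f63e0007a8f4001de3c000758ec001ca3a0006f8e4001b6380006a8dc0019e36000658d40018a340005f8cc0017232000598c40015e30000548bc001462e0004e8b40012e2c188150205204c07108110183203c050880d0101202c0300809008000560f00013838000460d0000f830000360b0000b8280002609000008000400001))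
 (.leaf (nat_lit 0x7ff80001ffe00007ff80001ffe00007ff80001ffe00007ff80001ffe00007ff80001ffe00007ff80001ffe00007ff80001ffe00007ff80001ffe00007ff80001ffe00007ff80001ffe00007ff80001ffe00007ff80001ffe00007ff80001ffe00007ff80001ffe00007ff80001ffe00007ff80001ffe00007ff80001ffe00007ff80001ffe00007ff80001ffe00007ff80001ffe00007ff80001ffe00007ff80001ffe00007ff80001ffe00007ff80001ffe00007ff80001ffe00007ff80001ffe00007ff80001ffe00007ff80001ffe00007ff80001ffe00007ff80001ffe00007ff80001ffe00007ff80001ffe00007ff80001ffe00007ff80001ffe00007ff80001ffe00007ff80001ffe00007ff80001ffe00007ff80001ffe00007ff80001ffe00007ff80001ffe00007ff80001ffe00007ff80001ffe00007ff80001ffe00007ff80001ffe00007ff80001ffe00007ff80001ffe00007ff80001ffe00007ff80001ffe00007ff80001ffe00007ff80001ffe00007ff80001ffe00007ff80001ffe00007ff80001ffe00007ff80001ffe00007ff80001ffe00007ff80001ffe00007ff80001ffe00007ff80001ff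e00007ff80001ffe00007ff80001ffe00007ff80001ffe00007ff80001ffe00007ff80001ffe00007ff80001ffe00007ff80001ffe00007ff80001ffe00007ff80001ffe00007ff80001ffe00007ff80001ffe00007ff80001ffe00007ff80001ffe00007ff80001ffe00007ff80001ffe00007ff80001ffe00007ff80001ffe00007ff80001ffe00007ff80001ffe00007ff80001ffe00007ff80001ffe00007ff80001ffe00007ff80001ffe00007ff80001ffe00007ff80001ffe00007ff80001ffe00007ff80001ffe00007ff80001ffe00007ff80001ffe00007ff80001ffe00007ff80001ffe00007ff80001ffe00007ff80001ffe00007ff80001ffe00007ff80001ffe00007ff80001ffe00007ff80001ffe00007ff80001ffe00007ff80001ffe00007ff80001ffe00007ff80001ffe00007ff80001ffe00007ff80001ffe00007ff80001ffe00007ff80001ffe00007ff80001ffe00007ff80001ffe00007ff80001ffe00007ff80001ffe00007ff80001ffe00007ff80001ffe00007ff80001ffe00007ff80001ffe00007ff80001ffe00007ff80001ffe00007ff80001ffe00007ff80001ffe00007ff80001ffe00007ff80001ffe00007ff80001ffe00007ff80001ffe00007ff80001ffe00007ff80001ffe00007ff80001ffe00007ff80001ffe00007ff80001ffe00007ff80001ffe00007ff80001ffe00007ff80001ffe00007ff80001ffe00))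
) (.leaf (nat_lit 0x4cbfc38532fd4c2003eaab6e2f90eb003dca8d42f68f8003ddbed42f34e24cbc526d42f00e5003bfbd942eccbeb8ba62db92e8cb80039dad682e509fb8b882c000dfe90e4b7d29000de2b10036ca3e82da4af003d9be800ee6f58cb5627532d308c0035cba232d08b48cb392a400d8ae94cb2d21800feeff0031da1000c5e71b8b1233000c2e6750b0936400c32dc50afe30d32be05f50af331800bcad750ae820ae2b747ae4ada1f000b5679a0acd18ee2b0c74002bb95392ae468002b59d400aae53a0aa81cc00c22db002edb5a32a60614ca9014000a76c98ca871e2329fc6d002a2b29329d84a003f4bf8009a248003b2bd0009724750a5b2e94295c9700256af142938ac003a0bc80090a4200396bc0008f2a600341b9000e62f10022d90000ddaec002278fe32e18ee00355b9c00faefd002178f942854a08ca412dc008263cb8b7e3b404f8cfc00253aee327f092b89f527800ce2e3509f0271427b08d4c9e70ec0096abd00211aac00766350036bba804f3cf94c9d00d0007aea2003c4bdc007023200200a9ee26dc43001b08c4006ba45001a98f404e94f30020aaa804e1cef00205aa282650365099021d3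262c2f0018791000d2ee60017a8b6325dc3a001cda6800c9ee00031eb7c0058a2c002e7b54005622b509571f9425505b00153a014253470002d8b4c0051226002cfb44004fe6a00286b1400b46d20013489000acecd0013088e32b04cf00297b2000c62de0012488942488648c9431ec0046620b8aba33804c44dd001519fe3243c56b890a188009fac4509061814240c514c90007c0055a810011f9bc003d619002aab2c04c00da4c8ef0600040a66002f7b600038a16001129aee236c27000d58540034e29000cf88404b70d40011a9b804b08d0001169b2822fc1a508bc12d322e413000b58a000a3ec7000ab846322a01e000ec978009c6c100269b000026210012622fdd26bc940009083c0065a8e001b4a5404918b90022eacc002060e0122a2c804870ae00176a21421e0304c8740340069e93011f42940079aa10006882c0061a8b000708e40071e99001c1a600016a0a011b6258046789100181a28005ee890004c8240459c850115d20dd235058000448200030652000d89640451c7d001359dc000ea07011321d8044a072000a7931420d0144c8320180033657011091a4003fe650002a810002d24f0002f874003a25d000e39700008603010da1680431c55000b1938002b24d0001880804270490109211804214410006c8e0001a6370000c80404174330104f0b8041142a0103d094000b61c0002b86c0000e000102305c04068120100e0300401005))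
) (.node (.leaf (nat_lit 0x38bfa3dce2fccd820bec3f092f94fa003edbf400f7afb24bd12b8b2f2ca338bc3284b2ef4bd2cbb7280b2ec09724ba82e2a2e7c9f00397a4a52e54b424b8a29082e00a9a8b7a27400dca90003cabe252da8b1003d0be4b2d68ac94b542c800fe6ff2cb462ea52d00b60033babcb2ccc9c38b2c26ce2c989920b1f22482c64dd24b1336c00c6ade0030db7092c08722cafd19ce2bd8652caf1204b2bb0642cae616c92b7c7ca8ad718c00b425694ace1e092b146820abc1b6a2adc61002b095000bf2d994aa91d400c06da2ca9c1c252a5876003f2bf8b2a2c7e94a851e800a06732ca7b180e29d45f38a70174829a84d24a642f082974a70025eaf800d66e800345b94b29304700393bc08290cab0033fb90008e242003a7bce528d0a620a2f29400e06ee00389bbc00ceae3002218fc92874a80036dbac0098ebf00237ad4008c2b300353b9c00d82e9003bcbd80091eb9249f628800da2ea00218ab40082eaa0034ab9800ebef40039cbc4827688d00377bb0b27503e389cf0ecb272c91389c60e000c82df003b6bd4926e445209b111aa26ac36001a58c404e78f22499f10404de4ed00332b8a526543a2c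98e0f000caee1949850f400c96e02097c0dc005e6432c9720c0e25b834249690b88258c2d2495f200825646b0015aa0800a6ec90028ab18b25302b002ccb44825146f00284b14004f226002deb52524e46a209361a400af6cf002c4b4000a02c40012c88c924a46c002acb300057a830013b9e4004de7700295b2000a86ca002f0b5c005227d2490b19800a9ecb001259c40046e6e0028eb1c00b96d5002d4b48823d851002b4b34b23c822388ee07cb23ac55388e7070009aec0002ebb589237429208d60aaa23441a000cc85404b58d3248c809404ad8ce0027ab0e523001e2c8bb080009d2c2948b3084009bec1208ad06c002aa272c8a5050e2288182489e048822641100251aec0064e8e00188a2c005e2880008c83c048f4b7248860e40076e9e012242c0006668f001b8a580020a400018aa30006ca95001caa68006028a001c2a60006a29300171a1ce21840d00168a140059284011aa250b21580e0016da18921400c2084d02c0012609001509fc002fa52000b693c002a64c00042820045007b2483e074003de620112e1d00031253000dc968000ee24000b89400035e59000ea978002c24e000e49700033a57000a492ce2098060009d9240026a48010d0160b207c07000a19289206c05208190100005a020108e1100019235000538bc0017a330005b8c80012a2c000088040410c280002886400076130002485c0008a160001784000006000100a0280400803))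
 (.leaf (nat_lit 0xf4bfd3f7d2fd8de003fdbfd92fa0f760be139800f5aa164bd438400f2299003e8bf000eea95003b4a5000eb69364bab2cb52e84edccb993b1a2e48b1e8b8d2d000e16b8003a1bc800e66f160b70381a2d9cb90035ea3000d5e8b68b522d400f86fb00343a21a2cf8e30033eb9000cc286003d4be400dc2eb60b222cc00fdafe64b1536182c3cc70030699592c10c2002fa97400c56dd002ee96400ba658002e395d92b8476d4ad933b32b48cd68acb1d7a2b1c78002c09f000b66d3002d2b4982ab8c168aa61f400a7e500029993da2a50790030fb7000a224c68a8331000a0ec50027892800c12da002aeb31829b07764a67259829848e0025891800952450024f9100092a4300367bab62e14eed4a3e2c3328e4af00352b9c00e36ef00322b7c00eaef300392bc0008fab700239ad9928809b60a1b2280084a3d68a102a5828349800210aac0080a3b001fd8e9a27eca4649f8224007eea6001ed8e0007a637013d63e80078636689e02758277485001e0a7c0074a3400220ab80072632013c83e000836aa001bc8c40099ebf013ba3d804ed0f5013ad3d1a269090649a12100069292001978bc00986be0018d8b804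d78e9013573a00086ead001f8a9404d0ce5001708b004cc0e2001dda780068691649611698257052001558a80054a290014e8a00052a27002a6b2f62b00cfd49411d3324f47300294b2000b1ed00026cb0000b86d4002cbb44005067b0013d9e9924ac5f6092713800482216891e1b5824705c0011e9bc004521f00110879a2438686490c1340043a6a00104870004061b0130636c003ee1a688fa185823e049000fa98c003c2180012b9c8003a616012fa364004726e000df8540058683012ee35c04ba4d6012e3355a232c54648c91200032e56000c284c0057282000ba84804a7cca012993240049e710010c9a404a20c6000a3840049e0c3000f898800326550009483c04960bd012542f00493cbb0124a2e9a222c3f648880b582210330008b908001ee0d012122b0001da0c012022a0047f4a70006e82c047b4a3011e928804784a000063828047489c00084900047249a011bc25c00156090119723c046348d00088904045c08700046820045548101152200045387f0114a1f9a2104236483f045820f01700041898000da06011201c0000ce05011141b0044406b0002e810044106701101198043ec640002780c043c0600003c890043a45e010df16c0007a02010c214c042e8510003f8940428c4b0109411c0004a010107b0f8041d83c0106e0e40418c35010550c0041182b00006800040d82201033080040b81d010270640407814010120380401807))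
)) (.node (.node (.node (.leaf (nat_lit 0x28bf9398a2fc8c730bed3ec00fb2fd30bde3e800f96fc34bd03a4f2f28eb003fabfcf2ef0a73cbb625cf2ebca034ba72d400e7a92a4b9c27e62e4cb934b892c4c2e04b200379a4292ddc9d30b6d2b662da0a43cb602a0f2d64bc98b532a4a2d28a13cb452ee62cfcb788b3a2c0f2cc88f28b2b230a2c948a30b20260c2c68dc00319b78c2c34db00313b74d2c04ca3cafc33000fcefe3caf01acf2bac5b3cae5190d2b7879002d695a92b506398acc1f4d2b107530abd1d800ada54a4ab4184c2ab07198aa71a0f2a846c3ca9b20262a546d28a8e194f2a287f98a841ee22a00743ca7a14ca29d05028a6f138c29ac5c34a632b0c2978bd003bdbd800992bf3ca5111c00d1ae534a4729800ea2f30023d90800d02e498a372ac00e56f030a302a800d52e70036aba8008923f1cb3b38c00f46f930a1828c00d6ae800243ae0c282ca200380bb800876ae0025daf8008d2b40022facc00e2aef003cbbe0007daa5003c3bdc00edef50039fbc8c276c400037abb400ccee20032cb84f27283900326b80c270837003b0bd0d26e03d309b20e8006aa31a49a80d804e5cf1001cba6804dc8ec3c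9990fa6264c46001daa78a26283b30988114a2600380031fb7e225e0443c9710d4a25b42f349680ccc2590323495e1c0c256881002f1b5c0057e833c9500ac00a2ec6349481a800b7ed40014089800a16c59893b1bc00b3ad1309371b800a5ac8002a9b2c004ba231ca8131000c0ada3092519c00a72c9001459f0c246c66002bcb3c004a67200159a08004e678001369dc00b16d0002fdb640042e69002f6b6000bb2d6002d7b4cc23dc24002b7b38009eec300275b08f23a81d00270b04c23901b002e6b54d237021308d70780034215a48ce06804b40d2000eb97804ac0cd3c8c408a622f82a000f6988a22e01f308b60a4a22c01c0026ab02222a4283c8a4064a2284133489d05cc2268160024cae8006c695001b9a580023a0f1c979220048e0b60019fa44c22083c012212bc007529c00185a2c0063a8d001cfa6c006568e000869040071a990017ca24006ae943c864038005ba863485e030c216c0b011a524c005ca8728853034005a68500163a10721280a0014c9f80035a59000dd9680010e081c8aa130044f07a000c8954c20ec200112c1cc003ca60000b393c002ee51000ee97c00302520003e8940039e5d000ad93400346583c82801c0028a4a34824014c208804010cc15c002964b2881d0180027a49000999207205c030108c10c0015a30000618d0001422e0004d8b40002a01010490b004108270001f8500009a180001b8480006611000028000405810010080240400402))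
 (.leaf (nat_lit 0x302b7c00a0ac000281ab400a08a800281a8c00a0ca10028227000a0c9900282a6000a0c950028325000a0c930028224800a049200280a4800a0e910028224000a06900028124000a029000281a3c00a0e8c0028323000a0c8b00283a2800a0a890028322000a0e8700283a1800a0c8600282a1400a0a8400281a100080671002021b00080667002031940080860002031740080a5c002031640080c580020315c0080856002011580080256002039540080854002019500080454002009500080653002039400080c500020313c0080e4e002029340080c4c0020392c0080e4a002031280080a490020292000806480020211c0080647002031180080c45002031100080c43002021080080642002011080080242002039040080e4000201900008083f002018fc008043f002008fc008083e002018f80080c3d002038f0008063c002038ec0080c3b002030e80080e39002020e40080e38002030e00080c37002028dc0080c36002038d40080635002038d00080c34002028cc0080c32002028c80080632002030c40080831002018c40080431002008c40080e30002020c00080e2f002030bc0080e2e002030b80080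a2e002038b40080a2d002018b40080e2c002030b00080a2c002020b0008062c001820ac006062b001830a80060c29001830a00060c27001820980060626001810980060226001838940060e240018189000608230018188c00604230018088c0060822001818880060c210018388000606200018387c0060c1f001830780060e1d001820740060e1c001830700060c1b0018286c0060c1a001838640060619001838600060c180018285c0060c16001828580060616001830540060815001818540060415001808540060e14001820500060e130018304c0060e12001830480060a12001838440060a11001818440060e10001830400060a100018204000606100018303c006080f0018183c006040f0018083c0060e0e00182038006060e001838340060c0d001838300060c0c001828300060e0b0018302c0060a0b0018182c0060e0a001830280060a0a00182028006060a001838240060c09001828240060809001818240060209001030200040808001018200040408001008200040e070010201c0040607001038180040c06001038140040c05001028140040e04001030100040a04001018100040e030010300c0040a030010200c0040603001038080040c02001028080040802001018080040202001038040040c01001028040040801001018040040401001008040020e00000830000020a00000820000020600000810000020200000800000000000))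
) (.leaf (nat_lit 0x3f8b7c00fc6c0bcbee2cf02f98aabcbdf29562f5ca2c0bd227962f249a003c2a6162eecb458bb53c562eb8f2c0ba92f000ebaf4003b5bd572e40bdc0b8b256f2e0896c8b7b24f12dcc94bcb6e24572d948e58b5f23562d60b55cb5022c00d268958b4439000d12e55cb3622162cc4870032aa1400c9284013f83fef2c6c77c0b141baf2c386958b0719b02c0c6258afb17800bd65c58aef1e162ba8d258ae434f02b8080002e4b5400baad65caca20702b1859bcabe16b22ae057c4ab1162f2ab4555caa514962a805158a9a1e572a4c4f0028d93562a24c500289b19729f44c58a7912c009ce490026e92004fc4fec0a652e2f297cb900390bc000ea6f358a502d96292cb70025faf800996bf0024bae800942bb00358ba000eeef6003eebf7028ac45bca2811b2289443c4a221130287840bca191056284cab00213ab000f9afc5ca070f56280c3c589fe298007faa7003dfbed727c83a589ee0e400f5efa001e58dd627889f001e2a8000f4af95c9d70d96274c35001ce8cc00f26f8001c58c804f08f7589bd24800e0aee0038bbbc00dceec0037bbb4006f6970036ebad7267031589980c000d96ea0035fba4006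262e00350b9c005fe2d0134939800cdae300331b88005b22c0132a38404c90e0c09601f2f256c7d002cab4400b82d45894f1e96252c7b0015ba0800582830014b9f80053e7f0029ab2400bbed70031bb7b024cc29bc9310ab224bc27c492d0a3024a824bc926095624846f001219c000c52dd5c9180856245420589111a8004466b0030eb71724201e5890507400c1edb000fe86d623f063000fc99000c0eda5c8f4069623c419000ed85c00beed9000e685804bd4d8588e015800afacf002c6b4000ac6cd002b8b38003825b002adb317231815588c305000a96cb002a0b28002de1200293b20002be110128d31c009f6c400279b0c002821001273308049b8c158895108008a2b10022bac80088aaf00225ac0002564700219ab40087aae5c87f03d621f00e00207aa40080ea800073830007caa4001eea8c001ae0b011e52840075e9d001d3a70001820a011ce26c04714990019ca40006628f00052824046248c0117f228045b08658847098004c675001339d8004b6730012f9d00011e2b001269c4004aa725c839021620dc07001189b4004566c0003181400422680010599c000b204010fe194003d261000f19800009603010ed17c043985d000c69500030e530001c808042dc50010af138042804a0007f8fc001f23e00010804041cc3b0106b0e00418034010520bc000e6230003788800016000103107c040b01c010250600407013010100340401406))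
) (.node (.leaf (nat_lit 0x44bfb38112fd0c140beb2b800f8ea840bdd3e522f64e9003cfa7000f6afa44bc426522efcf548bb93a122ec8bf003a5a4952e80b9ecb982d1c2e58b700387a4000e1ab00037eaa5b2dd8b2003e4bf1c2dac9d48b6238922d70e59cb552bd12d2c8a003c0bd9c2d04b570b3829000f36f8003fcbfd12c9c8640b1e21502c6072003119b102c30da48b0832800c026000309b6d12bdc5d48af235922bb4c948ae720c00b725654ad81f7b2b447870acf1ec00b0a54002c19d000aea6d6cab31d800c4add70aaa18522a88c348a9d31a72a5c7344a8f13800bced770a861e5c29f868002feb6400fd6fe44a71129029a4490026291c00ecef448a5a28122958bb48a5329c0096ebd0024690800e8ef200241aac00e9af354b9d3c400d0ae440a2e104008aa3f54b783b000e22ef00369ba8008723e013ea3f40093aba70a1127d028289100339b8d228148f48a0025dc28f0b6001f48e400df6ed013dc3ed227ac9a449e60e000856ac00394bc0007d6a500356b9c007c2a3003c5bdd2273487449c70d1027043300257af0006da31b09b410c006be466c9a70e8007f2a60019e8c004dfcee0136c3ae726584400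1eca8800d32e6709860d9126042f4097b0b9c25d83d00190a3400cb6e1001678b004c74df0015d8ac00ba2d5489561912254c7f489511ac0055e810014789800b6ad3001439bc00b76d454ad534800a1ec540935094004ca2354ab533400b0ed0002a8b2c004a22201317378005367e7091f18d02468550027fb1122458534891216dc24fc7a0010987400ae6ce0130b371224085e448ff0700048a70002cdb440042a6900298b200041a67002f8b61223b04b448e80610238c1700154a000036a15b08d809c003522a6c8cd0780043e6a000c785004aeccf012ab33272304280010399800a42c7708b4069122c413408ac049c229c21000bc944009dac20009c840049a0c00125c2f80024a0f709ae251b261c8b001b7a5804908b800085838048b4b3012272c40485cad549a924c04824aa001e7a84005de88488700d5121b00d40869030006528e011d9278007429b0005d8280470098011b0254001e23c0018ba300013e090117a2240458884011582080011608708d3161b22d44f000db968045107c0003d81c044d077011301d40449071548cf15c044646e00100994002a24c4882f065120b4064082b014002fe52010f5188003be5f0002380c043885c010d5164000d220000b99400006a02010ab1340426048010901140420440000748ec0003a01010680dc04168320104c0b404110290103a090000ca1f00004800040a81b0102105804060110100c02c0400c04))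
 (.leaf (nat_lit 0xdcbfe3b772fdcce90bf03d212fa4bb90be22e9f2f6cf584bd52f1f2f38bfdcbc62bdf2f04ae003dbbe800fc2fd84bac27bc2e90b3d0b9b28800e3e9184b8e26ed2e1099003febff42dd4a190b712f400d928ce0b632f9f2d74ad0034fa2b72d34b07cb4838800cf28700335a1800d22e5dcb2e2cb72ca0b190b2324e42c70d584b161fe42c407e7cb0a35a12c14807caff20f72be4737caf41c800c2adb0031cb7a12b8862f0adb1df42b4c66002c995612b205fb4abf17400fdefed0ab219642abc81002a494382a8c827ca9e1c400a4a4edca911d1f2a30c30028292c009f24a0028cb1b729dc76dca721d6429b457003cebe000d8ee900371bac00f56f9003e9bf000f8afb78a49236d29149aaca40297428ecaa00235904008ca40003a4bc800cbae100328b8000d36e6003c6bdc00f06f60035dba1f2858a80020e8f0008eeb6002068ec0085aac7ca0128c007e63900240adc007c63800201a9c00e6ef100375bb1f27909c001de8d400eb2f3001d68d000792a00038ebbc00916b800384bba42710447c9bf23e126ec32b49b50ceb26b43700323b7c0068a300138f3c00066e2f001bfa5c006462e00249ae404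d90ea001838b404d3ce79097e10c005d22c0133c39004cd4e38496b1140059a46002ffb6400a8eca002afb3000c16da00316b7400c42dc78949146d25185eac9421a7424f86e0013a894004e224002dbb4c009dec200272b0400a46c7002f9b6000bd2d70029eb25f248c6c0011d880004fa7a0011787c0048e707c91319c004361d001429ec0041e1c001139ac00b4ed2002b2b35f23f460000f986400b8ad4000f3860003f664002c8b400051a7c002bfb3e42394287c8e114e1237816b48d905eb23481b0026db000032a14012c93440031613000e196c002f612001499f404a90cb000b284404a48c8908ae09c0029a1001282314049f0c48489f0a40026e2a7c8970fa02598840016ba1400712980017ea24002260e012352d4048c8b40007e8340025e470007983004838ab012062a4001c60b011f9298047c4a4001ada500019a0a011de27c047589d001b5a54006ee960005882404688920119b240046448e0118322c045d0887c848089e226c480009f924003965c000ae93400102070113a1e4044e07800038818001222b00035814044746f011171b4000c2040110d1a80441c68000d2960000a603010f918c043cc61000d99640037a5a000208080432856010c5150042f452010b213c042984c0001480404224420107e0fc041e43d010710e80419836010580c40001e0001040098040e02301035084040c01e0102906804080150101403c0401c08))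
)))

noncomputable def tS_rules : LT :=
(.node (.node (.node (.node (.node (.node (.leaf [nat_lit 21,nat_lit 1,nat_lit 1,nat_lit 0,nat_lit 2,nat_lit 0,nat_lit 1])
 (.leaf [nat_lit 25,nat_lit 0,nat_lit 1,nat_lit 7,nat_lit 0,nat_lit 7,nat_lit 0])
) (.node (.leaf [nat_lit 10,nat_lit 2,nat_lit 1,nat_lit 3,nat_lit 4,nat_lit 4,nat_lit 4])
 (.leaf [nat_lit 13,nat_lit 2,nat_lit 0,nat_lit 5,nat_lit 3,nat_lit 5,nat_lit 3])
)) (.node (.node (.leaf [nat_lit 11,nat_lit 1,nat_lit 1,nat_lit 2,nat_lit 4,nat_lit 2,nat_lit 3])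
 (.leaf [nat_lit 17,nat_lit 2,nat_lit 1,nat_lit 4,nat_lit 7,nat_lit 2,nat_lit 7,nat_lit 1,nat_lit 3])
) (.node (.leaf [nat_lit 16,nat_lit 2,nat_lit 1,nat_lit 6,nat_lit 4,nat_lit 6,nat_lit 2,nat_lit 4])
 (.leaf [nat_lit 20,nat_lit 2,nat_lit 0,nat_lit 7,nat_lit 6,nat_lit 5,nat_lit 7,nat_lit 6])
))) (.node (.node (.node (.leaf [nat_lit 23,nat_lit 1,nat_lit 1,nat_lit 0,nat_lit 5,nat_lit 0,nat_lit 5])
 (.leaf [nat_lit 17,nat_lit 2,nat_lit 0,nat_lit 7,nat_lit 4,nat_lit 4,nat_lit 2,nat_lit 7,nat_lit 1])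
) (.node (.leaf [nat_lit 16,nat_lit 1,nat_lit 0,nat_lit 4,nat_lit 6,nat_lit 3,nat_lit 1,nat_lit 6])
 (.leaf [nat_lit 17,nat_lit 3,nat_lit 1,nat_lit 7,nat_lit 2,nat_lit 7,nat_lit 1,nat_lit 3,nat_lit 3])
)) (.node (.node (.leaf [nat_lit 11,nat_lit 2,nat_lit 0,nat_lit 1,nat_lit 4,nat_lit 1,nat_lit 3])
 (.leaf [nat_lit 17,nat_lit 3,nat_lit 0,nat_lit 3,nat_lit 4,nat_lit 2,nat_lit 7,nat_lit 1,nat_lit 7])
) (.node (.leaf [nat_lit 18,nat_lit 4,nat_lit 1,nat_lit 3,nat_lit 7,nat_lit 1,nat_lit 1,nat_lit 4,nat_lit 7])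
 (.leaf [nat_lit 17,nat_lit 5,nat_lit 1,nat_lit 7,nat_lit 1,nat_lit 3,nat_lit 3,nat_lit 7,nat_lit 2])
)))) (.node (.node (.node (.node (.leaf [nat_lit 22,nat_lit 1,nat_lit 1,nat_lit 0,nat_lit 4,nat_lit 0,nat_lit 3])
 (.leaf [nat_lit 18,nat_lit 5,nat_lit 0,nat_lit 1,nat_lit 7,nat_lit 3,nat_lit 7,nat_lit 3,nat_lit 2])
) (.node (.leaf [nat_lit 16,nat_lit 3,nat_lit 1,nat_lit 3,nat_lit 6,nat_lit 2,nat_lit 4,nat_lit 6])
 (.leaf [nat_lit 12,nat_lit 2,nat_lit 0,nat_lit 5,nat_lit 1,nat_lit 5,nat_lit 1])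
)) (.node (.node (.leaf [nat_lit 12,nat_lit 2,nat_lit 1,nat_lit 1,nat_lit 5,nat_lit 2,nat_lit 5])
 (.leaf [nat_lit 9,nat_lit 2,nat_lit 0,nat_lit 2,nat_lit 1,nat_lit 1,nat_lit 1])
) (.node (.leaf [nat_lit 20,nat_lit 3,nat_lit 1,nat_lit 6,nat_lit 7,nat_lit 5,nat_lit 6,nat_lit 7])
 (.leaf [nat_lit 16,nat_lit 0,nat_lit 0,nat_lit 6,nat_lit 3,nat_lit 6,nat_lit 3,nat_lit 1])
))) (.node (.node (.node (.leaf [nat_lit 25,nat_lit 1,nat_lit 1,nat_lit 0,nat_lit 7,nat_lit 0,nat_lit 7])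
 (.leaf [nat_lit 17,nat_lit 4,nat_lit 1,nat_lit 1,nat_lit 7,nat_lit 1,nat_lit 3,nat_lit 3,nat_lit 7])
) (.node (.leaf [nat_lit 14,nat_lit 1,nat_lit 1,nat_lit 5,nat_lit 6,nat_lit 5,nat_lit 6])
 (.leaf [nat_lit 20,nat_lit 1,nat_lit 0,nat_lit 6,nat_lit 7,nat_lit 6,nat_lit 5,nat_lit 7])
)) (.node (.node (.leaf [nat_lit 12,nat_lit 1,nat_lit 0,nat_lit 2,nat_lit 5,nat_lit 1,nat_lit 5])
 (.leaf [nat_lit 10,nat_lit 2,nat_lit 0,nat_lit 4,nat_lit 3,nat_lit 3,nat_lit 3])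
) (.leaf [nat_lit 18,nat_lit 0,nat_lit 0,nat_lit 7,nat_lit 3,nat_lit 7,nat_lit 3,nat_lit 2,nat_lit 2])
)))) (.node (.node (.node (.node (.node (.leaf [nat_lit 21,nat_lit 3,nat_lit 1,nat_lit 0,nat_lit 1,nat_lit 0,nat_lit 2])
 (.leaf [nat_lit 18,nat_lit 2,nat_lit 0,nat_lit 7,nat_lit 3,nat_lit 2,nat_lit 2,nat_lit 7,nat_lit 3])
) (.node (.leaf [nat_lit 13,nat_lit 2,nat_lit 1,nat_lit 3,nat_lit 5,nat_lit 4,nat_lit 5])
 (.leaf [nat_lit 12,nat_lit 1,nat_lit 1,nat_lit 5,nat_lit 2,nat_lit 5,nat_lit 2])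
)) (.node (.node (.leaf [nat_lit 11,nat_lit 0,nat_lit 0,nat_lit 2,nat_lit 3,nat_lit 2,nat_lit 4])
 (.leaf [nat_lit 18,nat_lit 4,nat_lit 0,nat_lit 1,nat_lit 2,nat_lit 7,nat_lit 3,nat_lit 7,nat_lit 3])
) (.node (.leaf [nat_lit 16,nat_lit 2,nat_lit 0,nat_lit 6,nat_lit 3,nat_lit 1,nat_lit 6,nat_lit 3])
 (.leaf [nat_lit 16,nat_lit 3,nat_lit 0,nat_lit 4,nat_lit 1,nat_lit 6,nat_lit 3,nat_lit 6])
))) (.node (.node (.node (.leaf [nat_lit 24,nat_lit 1,nat_lit 1,nat_lit 0,nat_lit 6,nat_lit 0,nat_lit 6])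
 (.leaf [nat_lit 17,nat_lit 1,nat_lit 0,nat_lit 2,nat_lit 7,nat_lit 4,nat_lit 4,nat_lit 2,nat_lit 7])
) (.node (.leaf [nat_lit 11,nat_lit 3,nat_lit 0,nat_lit 3,nat_lit 1,nat_lit 3,nat_lit 2])
 (.leaf [nat_lit 15,nat_lit 3,nat_lit 1,nat_lit 6,nat_lit 1,nat_lit 6,nat_lit 2])
)) (.node (.node (.leaf [nat_lit 11,nat_lit 3,nat_lit 1,nat_lit 1,nat_lit 3,nat_lit 1,nat_lit 4])
 (.leaf [nat_lit 18,nat_lit 3,nat_lit 1,nat_lit 7,nat_lit 4,nat_lit 7,nat_lit 1,nat_lit 1,nat_lit 4])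
) (.node (.leaf [nat_lit 18,nat_lit 3,nat_lit 0,nat_lit 4,nat_lit 2,nat_lit 2,nat_lit 7,nat_lit 3,nat_lit 7])
 (.leaf [nat_lit 14,nat_lit 2,nat_lit 1,nat_lit 6,nat_lit 5,nat_lit 6,nat_lit 5])
)))) (.node (.node (.node (.node (.leaf [nat_lit 22,nat_lit 3,nat_lit 1,nat_lit 0,nat_lit 3,nat_lit 0,nat_lit 4])
 (.leaf [nat_lit 18,nat_lit 1,nat_lit 0,nat_lit 4,nat_lit 7,nat_lit 3,nat_lit 2,nat_lit 2,nat_lit 7])
) (.node (.leaf [nat_lit 13,nat_lit 1,nat_lit 0,nat_lit 4,nat_lit 5,nat_lit 3,nat_lit 5])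
 (.leaf [nat_lit 15,nat_lit 1,nat_lit 1,nat_lit 6,nat_lit 2,nat_lit 6,nat_lit 1])
)) (.node (.node (.leaf [nat_lit 15,nat_lit 0,nat_lit 1,nat_lit 2,nat_lit 6,nat_lit 2,nat_lit 6])
 (.leaf [nat_lit 17,nat_lit 0,nat_lit 0,nat_lit 7,nat_lit 1,nat_lit 7,nat_lit 4,nat_lit 4,nat_lit 2])
) (.node (.leaf [nat_lit 17,nat_lit 4,nat_lit 0,nat_lit 3,nat_lit 2,nat_lit 7,nat_lit 1,nat_lit 7,nat_lit 4])
 (.leaf [nat_lit 11,nat_lit 2,nat_lit 1,nat_lit 3,nat_lit 2,nat_lit 3,nat_lit 1])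
))) (.node (.node (.node (.leaf [nat_lit 9,nat_lit 2,nat_lit 1,nat_lit 1,nat_lit 2,nat_lit 2,nat_lit 2])
 (.leaf [nat_lit 18,nat_lit 2,nat_lit 1,nat_lit 3,nat_lit 7,nat_lit 4,nat_lit 7,nat_lit 1,nat_lit 1])
) (.node (.leaf [nat_lit 19,nat_lit 2,nat_lit 1,nat_lit 5,nat_lit 7,nat_lit 5,nat_lit 7])
 (.leaf [nat_lit 19,nat_lit 1,nat_lit 1,nat_lit 7,nat_lit 5,nat_lit 7,nat_lit 5])
)) (.node (.node (.leaf [nat_lit 15,nat_lit 2,nat_lit 1,nat_lit 1,nat_lit 6,nat_lit 1,nat_lit 6])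
 (.leaf [nat_lit 13,nat_lit 1,nat_lit 1,nat_lit 5,nat_lit 4,nat_lit 5,nat_lit 4])
) (.leaf [nat_lit 20,nat_lit 2,nat_lit 1,nat_lit 7,nat_lit 6,nat_lit 7,nat_lit 5,nat_lit 6])
)))))

noncomputable def tS_subs : LT :=
(.leaf [nat_lit 0,nat_lit 0,nat_lit 0,nat_lit 8])


noncomputable def tS : TC :=
  ⟨fun x c => Nat.shiftRight (BT.get tS_t x) (Nat.mul (nat_lit 30) c),
  (nat_lit 9), (nat_lit 511), (nat_lit 0x1fffff), (nat_lit 21), (nat_lit 511), (nat_lit 0x1ffe00), (nat_lit 256), (nat_lit 256), (nat_lit 8), (nat_lit 0), (nat_lit 8), (nat_lit 9), tS_inv, tS_rules, tS_subs⟩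

theorem tS_c1 : tS.rules.all (ruleOK tS.m tS.inv tS_rels) = true := by decide +kernel
theorem tS_c2 : tS.subs.all (subOK tS.m tS.inv tS_hws) = true := by decide +kernel
theorem tS_c3 : tS.base = true := by decide +kernel

theorem tS_s0 : tS.slots (nat_lit 0) (nat_lit 256) = true := by decide +kernel

theorem tS_c4 : tS.Upto tS.N := ((TC.upto_zero tS).step _ tS_s0)
theorem tS_c5 : tS.UptoE tS.N := (TC.uptoE_n tS)
theorem tS_bound {G : Type*} [Group G] {g : ℕ → G} {H : Subgroup G} (hinv : ∀ x < 8, g x * g (tS_inv x) = 1)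
    (hrels : ∀ i, evalW g (tS_rels.get i) = 1) (hH : ∀ x < 0, g x ∈ H) (hhws : ∀ i, evalW g (tS_hws.get i) ∈ H) :
    H.relIndex (genLt g 8) ≠ 0 ∧ H.relIndex (genLt g 8) ≤ 256 :=
  TC.relIndex_le (T := tS) hinv hrels hH hhws tS_c1 tS_c2 tS_c3 tS_c4 tS_c5

theorem tS_bd : Bound.{u} relS 0 8 256 := fun _ _ _ _ hs hH =>
  tS_bound (hs.hinv (by decide +kernel)) (hs.tree (by decide +kernel)) hH (leaf_nil_mem' _ _ (by decide +kernel))

theorem presS : Pres.{u} relS 8 256 := pres_nil.step tS_bd (by decide +kernel)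

noncomputable def tB_rels : LT :=
(.node (.node (.node (.node (.node (.node (.leaf [])
 (.leaf [nat_lit 0,nat_lit 5,nat_lit 0,nat_lit 5])
) (.leaf [nat_lit 5,nat_lit 6,nat_lit 5,nat_lit 6])
) (.node (.leaf [nat_lit 7,nat_lit 7])
 (.leaf [nat_lit 5,nat_lit 3,nat_lit 1,nat_lit 8,nat_lit 5,nat_lit 3,nat_lit 1,nat_lit 8])
)) (.node (.node (.leaf [nat_lit 3,nat_lit 4])
 (.leaf [nat_lit 8,nat_lit 1,nat_lit 9,nat_lit 4,nat_lit 5,nat_lit 6,nat_lit 4])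
) (.node (.leaf [nat_lit 3,nat_lit 3,nat_lit 3,nat_lit 3])
 (.leaf [nat_lit 7,nat_lit 6,nat_lit 7,nat_lit 6,nat_lit 5])
))) (.node (.node (.node (.node (.leaf [nat_lit 1,nat_lit 2])
 (.leaf [nat_lit 0,nat_lit 8,nat_lit 0,nat_lit 9])
) (.leaf [nat_lit 6,nat_lit 3,nat_lit 6,nat_lit 3,nat_lit 1])
) (.node (.leaf [nat_lit 9,nat_lit 8])
 (.leaf [nat_lit 7,nat_lit 3,nat_lit 7,nat_lit 3,nat_lit 2,nat_lit 2])
)) (.node (.node (.leaf [nat_lit 5,nat_lit 5])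
 (.leaf [nat_lit 8,nat_lit 6,nat_lit 9,nat_lit 1,nat_lit 1,nat_lit 5,nat_lit 6])
) (.node (.leaf [nat_lit 5,nat_lit 1,nat_lit 5,nat_lit 1])
 (.leaf [nat_lit 0,nat_lit 1,nat_lit 0,nat_lit 2])
)))) (.node (.node (.node (.node (.node (.leaf [nat_lit 0,nat_lit 0])
 (.leaf [nat_lit 0,nat_lit 6,nat_lit 0,nat_lit 6])
) (.leaf [nat_lit 6,nat_lit 1,nat_lit 6,nat_lit 2])
) (.node (.leaf [nat_lit 8,nat_lit 9])
 (.leaf [nat_lit 7,nat_lit 1,nat_lit 7,nat_lit 4,nat_lit 4,nat_lit 2])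
)) (.node (.node (.leaf [nat_lit 4,nat_lit 3])
 (.leaf [nat_lit 8,nat_lit 5,nat_lit 9,nat_lit 6])
) (.node (.leaf [nat_lit 1,nat_lit 3,nat_lit 2,nat_lit 4])
 (.leaf [nat_lit 7,nat_lit 8,nat_lit 7,nat_lit 8,nat_lit 5,nat_lit 1])
))) (.node (.node (.node (.node (.leaf [nat_lit 2,nat_lit 1])
 (.leaf [nat_lit 0,nat_lit 7,nat_lit 0,nat_lit 7])
) (.leaf [nat_lit 8,nat_lit 8,nat_lit 8])
) (.node (.leaf [nat_lit 1,nat_lit 1,nat_lit 1,nat_lit 1])
 (.leaf [nat_lit 7,nat_lit 5,nat_lit 7,nat_lit 5])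
)) (.node (.node (.leaf [nat_lit 6,nat_lit 6])
 (.leaf [nat_lit 8,nat_lit 3,nat_lit 3,nat_lit 9,nat_lit 2,nat_lit 5])
) (.node (.leaf [nat_lit 5,nat_lit 3,nat_lit 5,nat_lit 3])
 (.leaf [nat_lit 0,nat_lit 3,nat_lit 0,nat_lit 4])
)))))
noncomputable def tB_hws : LT :=
(.leaf [])

noncomputable def tB_inv : ℕ → ℕ := getP (nat_lit 8) (nat_lit 255) (nat_lit 0x8090706050304010200)

noncomputable def tB_t : BT :=
(.node (.node (.node (.node (.leaf (nat_lit 0x52142020b10e000))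
 (.leaf (nat_lit 0x1000012204081))
) (.leaf (nat_lit 0x1b1001d20e040))
) (.node (.node (.leaf (nat_lit 0x192000d10e020))
 (.leaf (nat_lit 0x1ff001ff001ff0))
) (.leaf (nat_lit 0x92132420e10e060))
)) (.node (.node (.node (.leaf (nat_lit 0x62182120c10e010))
 (.leaf (nat_lit 0xb211100090040f2))
) (.leaf (nat_lit 0x82172320a10e050))
) (.node (.node (.leaf (nat_lit 0x721c1221a20e030))
 (.leaf (nat_lit 0x10900108000000))
) (.leaf (nat_lit 0xa2151001620e070))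
)))

noncomputable def tB_rules : LT :=
(.node (.node (.node (.node (.leaf [nat_lit 34,nat_lit 1,nat_lit 1,nat_lit 0,nat_lit 9,nat_lit 0,nat_lit 8])
 (.leaf [nat_lit 27,nat_lit 0,nat_lit 1,nat_lit 5,nat_lit 7,nat_lit 5,nat_lit 7])
) (.leaf [nat_lit 22,nat_lit 5,nat_lit 1,nat_lit 6,nat_lit 9,nat_lit 6,nat_lit 5,nat_lit 2,nat_lit 2,nat_lit 8])
) (.node (.node (.leaf [nat_lit 24,nat_lit 6,nat_lit 1,nat_lit 3,nat_lit 5,nat_lit 9,nat_lit 2,nat_lit 4,nat_lit 5,nat_lit 9,nat_lit 2])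
 (.leaf [nat_lit 29,nat_lit 2,nat_lit 0,nat_lit 7,nat_lit 8,nat_lit 5,nat_lit 1,nat_lit 7,nat_lit 8])
) (.leaf [nat_lit 29,nat_lit 0,nat_lit 1,nat_lit 1,nat_lit 5,nat_lit 9,nat_lit 7,nat_lit 9,nat_lit 7])
)) (.node (.node (.node (.leaf [nat_lit 20,nat_lit 5,nat_lit 1,nat_lit 1,nat_lit 9,nat_lit 3,nat_lit 6,nat_lit 5,nat_lit 3,nat_lit 8])
 (.leaf [nat_lit 21,nat_lit 0,nat_lit 1,nat_lit 6,nat_lit 8,nat_lit 5,nat_lit 9])
) (.leaf [nat_lit 34,nat_lit 3,nat_lit 1,nat_lit 0,nat_lit 8,nat_lit 0,nat_lit 9])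
) (.node (.node (.leaf [nat_lit 21,nat_lit 2,nat_lit 1,nat_lit 5,nat_lit 9,nat_lit 6,nat_lit 8])
 (.leaf [nat_lit 19,nat_lit 1,nat_lit 0,nat_lit 9,nat_lit 8,nat_lit 8])
) (.leaf [nat_lit 15,nat_lit 0,nat_lit 1,nat_lit 3,nat_lit 5,nat_lit 4,nat_lit 5])
)))

noncomputable def tB_subs : LT :=
(.leaf [nat_lit 0,nat_lit 0,nat_lit 0,nat_lit 10])


noncomputable def tB : TC :=
  ⟨fun x c => Nat.shiftRight (BT.get tB_t x) (Nat.mul (nat_lit 20) c),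
  (nat_lit 4), (nat_lit 15), (nat_lit 8191), (nat_lit 13), (nat_lit 127), (nat_lit 8176), (nat_lit 3), (nat_lit 3), (nat_lit 10), (nat_lit 8), (nat_lit 10), (nat_lit 11), tB_inv, tB_rules, tB_subs⟩

theorem tB_c1 : tB.rules.all (ruleOK tB.m tB.inv tB_rels) = true := by decide +kernel
theorem tB_c2 : tB.subs.all (subOK tB.m tB.inv tB_hws) = true := by decide +kernel
theorem tB_c3 : tB.base = true := by decide +kernel

theorem tB_s0 : tB.slots (nat_lit 0) (nat_lit 3) = true := by decide +kernel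

theorem tB_c4 : tB.Upto tB.N := ((TC.upto_zero tB).step _ tB_s0)
theorem tB_c5 : tB.UptoE tB.N := (TC.uptoE_n tB)
theorem tB_bound {G : Type*} [Group G] {g : ℕ → G} {H : Subgroup G} (hinv : ∀ x < 10, g x * g (tB_inv x) = 1)
    (hrels : ∀ i, evalW g (tB_rels.get i) = 1) (hH : ∀ x < 8, g x ∈ H) (hhws : ∀ i, evalW g (tB_hws.get i) ∈ H) :
    H.relIndex (genLt g 10) ≠ 0 ∧ H.relIndex (genLt g 10) ≤ 3 :=
  TC.relIndex_le (T := tB) hinv hrels hH hhws tB_c1 tB_c2 tB_c3 tB_c4 tB_c5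

theorem tB_bd : Bound.{u} relB 8 10 3 := fun _ _ _ _ hs hH =>
  tB_bound (hs.hinv (by decide +kernel)) (hs.tree (by decide +kernel)) hH (leaf_nil_mem' _ _ (by decide +kernel))

theorem presB : Pres.{u} relB 10 768 := presS.step tB_bd (by decide +kernel)

noncomputable def cC : List ℕ := [(nat_lit 0x810204f7e), (nat_lit 0xc1013784d), (nat_lit 0xc10ec87b2), (nat_lit 0xc10e2434e), (nat_lit 0xc10a3475e), (nat_lit 0xc1023bb41), (nat_lit 0xb2f2043be), (nat_lit 0x3d02140be), (nat_lit 0xc1c60879d), (nat_lit 0xb0c118491)]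

theorem cC_ok : allL cC B6.v = true := by decide +kernel

noncomputable def CC_t : ST :=
(.node (nat_lit 0x80c1277ae) (.node (nat_lit 0x4cc12b791) (.node (nat_lit 0x3d01183b2) (.node (nat_lit 0xef90776d) (.node (nat_lit 0xe3d07771) (.node (nat_lit 0xe36374a2) (.node (nat_lit 0xe32f8771) (.node (nat_lit 0xe31f4b82) (.node (nat_lit 0xe312bc41) (.leaf (nat_lit 0xe312b3be) (nat_lit 769))
 (.node (nat_lit 0xe31f447d) (.leaf (nat_lit 0xe312bc41) (nat_lit 1025))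
 (.leaf (nat_lit 0xe31f447d) (nat_lit 1033))
)) (.node (nat_lit 0xe32270b2) (.leaf (nat_lit 0xe31f4b82) (nat_lit 777))
 (.node (nat_lit 0xe3227f4d) (.leaf (nat_lit 0xe32270b2) (nat_lit 769))
 (.leaf (nat_lit 0xe3227f4d) (nat_lit 1025))
))) (.node (nat_lit 0xe353b851) (.node (nat_lit 0xe32f888e) (.leaf (nat_lit 0xe32f8771) (nat_lit 1028))
 (.node (nat_lit 0xe353b7ae) (.leaf (nat_lit 0xe32f888e) (nat_lit 772))
 (.leaf (nat_lit 0xe353b7ae) (nat_lit 773))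
)) (.node (nat_lit 0xe35e406d) (.leaf (nat_lit 0xe353b851) (nat_lit 1029))
 (.node (nat_lit 0xe35e4f92) (.leaf (nat_lit 0xe35e406d) (nat_lit 1033))
 (.leaf (nat_lit 0xe35e4f92) (nat_lit 777))
)))) (.node (nat_lit 0xe39c84a2) (.node (nat_lit 0xe36e8c9e) (.node (nat_lit 0xe3637b5d) (.leaf (nat_lit 0xe36374a2) (nat_lit 773))
 (.node (nat_lit 0xe36e8361) (.leaf (nat_lit 0xe3637b5d) (nat_lit 1029))
 (.leaf (nat_lit 0xe36e8361) (nat_lit 1033))
)) (.node (nat_lit 0xe3917361) (.leaf (nat_lit 0xe36e8c9e) (nat_lit 777))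
 (.node (nat_lit 0xe3917c9e) (.leaf (nat_lit 0xe3917361) (nat_lit 1030))
 (.leaf (nat_lit 0xe3917c9e) (nat_lit 1286))
))) (.node (nat_lit 0xe3a1bf92) (.node (nat_lit 0xe39c8b5d) (.leaf (nat_lit 0xe39c84a2) (nat_lit 776))
 (.node (nat_lit 0xe3a1b06d) (.leaf (nat_lit 0xe39c8b5d) (nat_lit 520))
 (.leaf (nat_lit 0xe3a1b06d) (nat_lit 777))
)) (.node (nat_lit 0xe3ac47ae) (.leaf (nat_lit 0xe3a1bf92) (nat_lit 1033))
 (.node (nat_lit 0xe3ac4851) (.leaf (nat_lit 0xe3ac47ae) (nat_lit 1029))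
 (.leaf (nat_lit 0xe3ac4851) (nat_lit 773))
))))) (.node (nat_lit 0xef23b7be) (.node (nat_lit 0xe3ed43be) (.node (nat_lit 0xe3dd8f4d) (.node (nat_lit 0xe3d0788e) (.leaf (nat_lit 0xe3d07771) (nat_lit 772))
 (.node (nat_lit 0xe3dd80b2) (.leaf (nat_lit 0xe3d0788e) (nat_lit 1028))
 (.leaf (nat_lit 0xe3dd80b2) (nat_lit 1026))
)) (.node (nat_lit 0xe3e0b47d) (.leaf (nat_lit 0xe3dd8f4d) (nat_lit 770))
 (.node (nat_lit 0xe3e0bb82) (.leaf (nat_lit 0xe3e0b47d) (nat_lit 777))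
 (.leaf (nat_lit 0xe3e0bb82) (nat_lit 1033))
))) (.node (nat_lit 0xef137b4d) (.node (nat_lit 0xe3ed4c41) (.leaf (nat_lit 0xe3ed43be) (nat_lit 1026))
 (.node (nat_lit 0xef1374b2) (.leaf (nat_lit 0xe3ed4c41) (nat_lit 770))
 (.leaf (nat_lit 0xef1374b2) (nat_lit 518))
)) (.node (nat_lit 0xef1e4071) (.leaf (nat_lit 0xef137b4d) (nat_lit 774))
 (.node (nat_lit 0xef1e4f8e) (.leaf (nat_lit 0xef1e4071) (nat_lit 1283))
 (.leaf (nat_lit 0xef1e4f8e) (nat_lit 1027))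
)))) (.node (nat_lit 0xef5f4461) (.node (nat_lit 0xef2e8c82) (.node (nat_lit 0xef23b841) (.leaf (nat_lit 0xef23b7be) (nat_lit 518))
 (.node (nat_lit 0xef2e837d) (.leaf (nat_lit 0xef23b841) (nat_lit 774))
 (.leaf (nat_lit 0xef2e837d) (nat_lit 771))
)) (.node (nat_lit 0xef5270a2) (.leaf (nat_lit 0xef2e8c82) (nat_lit 515))
 (.node (nat_lit 0xef527f5d) (.leaf (nat_lit 0xef5270a2) (nat_lit 772))
 (.leaf (nat_lit 0xef527f5d) (nat_lit 1028))
))) (.node (nat_lit 0xef62bc51) (.node (nat_lit 0xef5f4b9e) (.leaf (nat_lit 0xef5f4461) (nat_lit 1284))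
 (.node (nat_lit 0xef62b3ae) (.leaf (nat_lit 0xef5f4b9e) (nat_lit 1028))
 (.leaf (nat_lit 0xef62b3ae) (nat_lit 777))
)) (.node (nat_lit 0xef6f876d) (.leaf (nat_lit 0xef62bc51) (nat_lit 1033))
 (.node (nat_lit 0xef6f8892) (.leaf (nat_lit 0xef6f876d) (nat_lit 1030))
 (.leaf (nat_lit 0xef6f8892) (nat_lit 774))
)))))) (.node (nat_lit 0xf35374be) (.node (nat_lit 0xefe1b071) (.node (nat_lit 0xefad80a2) (.node (nat_lit 0xef9d4c51) (.node (nat_lit 0xef907892) (.leaf (nat_lit 0xef90776d) (nat_lit 516))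
 (.node (nat_lit 0xef9d43ae) (.leaf (nat_lit 0xef907892) (nat_lit 772))
 (.leaf (nat_lit 0xef9d43ae) (nat_lit 1033))
)) (.node (nat_lit 0xefa0b461) (.leaf (nat_lit 0xef9d4c51) (nat_lit 777))
 (.node (nat_lit 0xefa0bb9e) (.leaf (nat_lit 0xefa0b461) (nat_lit 774))
 (.leaf (nat_lit 0xefa0bb9e) (nat_lit 1030))
))) (.node (nat_lit 0xefd17c82) (.node (nat_lit 0xefad8f5d) (.leaf (nat_lit 0xefad80a2) (nat_lit 1027))
 (.node (nat_lit 0xefd1737d) (.leaf (nat_lit 0xefad8f5d) (nat_lit 771))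
 (.leaf (nat_lit 0xefd1737d) (nat_lit 774))
)) (.node (nat_lit 0xefdc47be) (.leaf (nat_lit 0xefd17c82) (nat_lit 1030))
 (.node (nat_lit 0xefdc4841) (.leaf (nat_lit 0xefdc47be) (nat_lit 1033))
 (.leaf (nat_lit 0xefdc4841) (nat_lit 777))
)))) (.node (nat_lit 0xf31e836d) (.node (nat_lit 0xefec8b4d) (.node (nat_lit 0xefe1bf8e) (.leaf (nat_lit 0xefe1b071) (nat_lit 774))
 (.node (nat_lit 0xefec84b2) (.leaf (nat_lit 0xefe1bf8e) (nat_lit 1030))
 (.leaf (nat_lit 0xefec84b2) (nat_lit 774))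
)) (.node (nat_lit 0xf31270ae) (.leaf (nat_lit 0xefec8b4d) (nat_lit 518))
 (.node (nat_lit 0xf3127f51) (.leaf (nat_lit 0xf31270ae) (nat_lit 774))
 (.leaf (nat_lit 0xf3127f51) (nat_lit 1030))
))) (.node (nat_lit 0xf322bc5d) (.node (nat_lit 0xf31e8c92) (.leaf (nat_lit 0xf31e836d) (nat_lit 1032))
 (.node (nat_lit 0xf322b3a2) (.leaf (nat_lit 0xf31e8c92) (nat_lit 776))
 (.leaf (nat_lit 0xf322b3a2) (nat_lit 521))
)) (.node (nat_lit 0xf32e4061) (.leaf (nat_lit 0xf322bc5d) (nat_lit 777))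
 (.node (nat_lit 0xf32e4f9e) (.leaf (nat_lit 0xf32e4061) (nat_lit 1282))
 (.leaf (nat_lit 0xf32e4f9e) (nat_lit 1026))
))))) (.node (nat_lit 0xf3a0777d) (.node (nat_lit 0xf36f4471) (.node (nat_lit 0xf35f8882) (.node (nat_lit 0xf3537b41) (.leaf (nat_lit 0xf35374be) (nat_lit 1028))
 (.node (nat_lit 0xf35f877d) (.leaf (nat_lit 0xf3537b41) (nat_lit 1284))
 (.leaf (nat_lit 0xf35f877d) (nat_lit 1032))
)) (.node (nat_lit 0xf363b7b2) (.leaf (nat_lit 0xf35f8882) (nat_lit 776))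
 (.node (nat_lit 0xf363b84d) (.leaf (nat_lit 0xf363b7b2) (nat_lit 774))
 (.leaf (nat_lit 0xf363b84d) (nat_lit 1030))
))) (.node (nat_lit 0xf390bb8e) (.node (nat_lit 0xf36f4b8e) (.leaf (nat_lit 0xf36f4471) (nat_lit 1282))
 (.node (nat_lit 0xf390b471) (.leaf (nat_lit 0xf36f4b8e) (nat_lit 1026))
 (.leaf (nat_lit 0xf390b471) (nat_lit 1025))
)) (.node (nat_lit 0xf39c47b2) (.leaf (nat_lit 0xf390bb8e) (nat_lit 1281))
 (.node (nat_lit 0xf39c484d) (.leaf (nat_lit 0xf39c47b2) (nat_lit 1030))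
 (.leaf (nat_lit 0xf39c484d) (nat_lit 774))
)))) (.node (nat_lit 0xf3dd43a2) (.node (nat_lit 0xf3ac8b41) (.node (nat_lit 0xf3a07882) (.leaf (nat_lit 0xf3a0777d) (nat_lit 1032))
 (.node (nat_lit 0xf3ac84be) (.leaf (nat_lit 0xf3a07882) (nat_lit 1288))
 (.leaf (nat_lit 0xf3ac84be) (nat_lit 1281))
)) (.node (nat_lit 0xf3d1b061) (.leaf (nat_lit 0xf3ac8b41) (nat_lit 1025))
 (.node (nat_lit 0xf3d1bf9e) (.leaf (nat_lit 0xf3d1b061) (nat_lit 772))
 (.leaf (nat_lit 0xf3d1bf9e) (nat_lit 1028))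
))) (.node (nat_lit 0xf3e17c92) (.node (nat_lit 0xf3dd4c5d) (.leaf (nat_lit 0xf3dd43a2) (nat_lit 777))
 (.node (nat_lit 0xf3e1736d) (.leaf (nat_lit 0xf3dd4c5d) (nat_lit 521))
 (.leaf (nat_lit 0xf3e1736d) (nat_lit 1032))
)) (.node (nat_lit 0xf3ed80ae) (.leaf (nat_lit 0xf3e17c92) (nat_lit 1288))
 (.node (nat_lit 0xf3ed8f51) (.leaf (nat_lit 0xf3ed80ae) (nat_lit 777))
 (.leaf (nat_lit 0xf3ed8f51) (nat_lit 521))
))))))) (.node (nat_lit 0x3dc934761) (.node (nat_lit 0x3d0d07442) (.node (nat_lit 0x3d06044ae) (.node (nat_lit 0x3d02f8442) (.node (nat_lit 0x3d01f48b1) (.node (nat_lit 0x3d0118c4d) (.leaf (nat_lit 0x3d01183b2) (nat_lit 775))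
 (.node (nat_lit 0x3d01f474e) (.leaf (nat_lit 0x3d0118c4d) (nat_lit 1031))
 (.leaf (nat_lit 0x3d01f474e) (nat_lit 771))
)) (.node (nat_lit 0x3d02140be) (.leaf (nat_lit 0x3d01f48b1) (nat_lit 1027))
 (.node (nat_lit 0x3d0214f41) (.leaf (nat_lit 0x3d02140be) (nat_lit 263))
 (.leaf (nat_lit 0x3d0214f41) (nat_lit 519))
))) (.node (nat_lit 0x3d050885d) (.node (nat_lit 0x3d02f8bbd) (.leaf (nat_lit 0x3d02f8442) (nat_lit 771))
 (.node (nat_lit 0x3d05087a2) (.leaf (nat_lit 0x3d02f8bbd) (nat_lit 1027))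
 (.leaf (nat_lit 0x3d05087a2) (nat_lit 770))
)) (.node (nat_lit 0x3d05e435e) (.leaf (nat_lit 0x3d050885d) (nat_lit 1026))
 (.node (nat_lit 0x3d05e4ca1) (.leaf (nat_lit 0x3d05e435e) (nat_lit 772))
 (.leaf (nat_lit 0x3d05e4ca1) (nat_lit 1028))
)))) (.node (nat_lit 0x3d09fb4ae) (.node (nat_lit 0x3d06e8fad) (.node (nat_lit 0x3d0604b51) (.leaf (nat_lit 0x3d06044ae) (nat_lit 770))
 (.node (nat_lit 0x3d06e8052) (.leaf (nat_lit 0x3d0604b51) (nat_lit 1026))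
 (.leaf (nat_lit 0x3d06e8052) (nat_lit 772))
)) (.node (nat_lit 0x3d0917052) (.leaf (nat_lit 0x3d06e8fad) (nat_lit 1028))
 (.node (nat_lit 0x3d0917fad) (.leaf (nat_lit 0x3d0917052) (nat_lit 1031))
 (.leaf (nat_lit 0x3d0917fad) (nat_lit 775))
))) (.node (nat_lit 0x3d0a1bca1) (.node (nat_lit 0x3d09fbb51) (.leaf (nat_lit 0x3d09fb4ae) (nat_lit 1025))
 (.node (nat_lit 0x3d0a1b35e) (.leaf (nat_lit 0x3d09fbb51) (nat_lit 769))
 (.leaf (nat_lit 0x3d0a1b35e) (nat_lit 1031))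
)) (.node (nat_lit 0x3d0af77a2) (.leaf (nat_lit 0x3d0a1bca1) (nat_lit 775))
 (.node (nat_lit 0x3d0af785d) (.leaf (nat_lit 0x3d0af77a2) (nat_lit 1025))
 (.leaf (nat_lit 0x3d0af785d) (nat_lit 769))
))))) (.node (nat_lit 0x3dc23b48d) (.node (nat_lit 0x3d0ee73b2) (.node (nat_lit 0x3d0debf41) (.node (nat_lit 0x3d0d07bbd) (.leaf (nat_lit 0x3d0d07442) (nat_lit 1031))
 (.node (nat_lit 0x3d0deb0be) (.leaf (nat_lit 0x3d0d07bbd) (nat_lit 775))
 (.leaf (nat_lit 0x3d0deb0be) (nat_lit 1031))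
)) (.node (nat_lit 0x3d0e0b74e) (.leaf (nat_lit 0x3d0debf41) (nat_lit 775))
 (.node (nat_lit 0x3d0e0b8b1) (.leaf (nat_lit 0x3d0e0b74e) (nat_lit 1031))
 (.leaf (nat_lit 0x3d0e0b8b1) (nat_lit 775))
))) (.node (nat_lit 0x3dc13787e) (.node (nat_lit 0x3d0ee7c4d) (.leaf (nat_lit 0x3d0ee73b2) (nat_lit 1031))
 (.node (nat_lit 0x3dc137781) (.leaf (nat_lit 0x3d0ee7c4d) (nat_lit 775))
 (.leaf (nat_lit 0x3dc137781) (nat_lit 1281))
)) (.node (nat_lit 0x3dc1d707d) (.leaf (nat_lit 0x3dc13787e) (nat_lit 1025))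
 (.node (nat_lit 0x3dc1d7f82) (.leaf (nat_lit 0x3dc1d707d) (nat_lit 1032))
 (.leaf (nat_lit 0x3dc1d7f82) (nat_lit 776))
)))) (.node (nat_lit 0x3dc5c746d) (.node (nat_lit 0x3dc2dbc8e) (.node (nat_lit 0x3dc23bb72) (.leaf (nat_lit 0x3dc23b48d) (nat_lit 1031))
 (.node (nat_lit 0x3dc2db371) (.leaf (nat_lit 0x3dc23bb72) (nat_lit 775))
 (.leaf (nat_lit 0x3dc2db371) (nat_lit 1028))
)) (.node (nat_lit 0x3dc527391) (.leaf (nat_lit 0x3dc2dbc8e) (nat_lit 772))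
 (.node (nat_lit 0x3dc527c6e) (.leaf (nat_lit 0x3dc527391) (nat_lit 1033))
 (.leaf (nat_lit 0x3dc527c6e) (nat_lit 777))
))) (.node (nat_lit 0x3dc62bf62) (.node (nat_lit 0x3dc5c7b92) (.leaf (nat_lit 0x3dc5c746d) (nat_lit 1032))
 (.node (nat_lit 0x3dc62b09d) (.leaf (nat_lit 0x3dc5c7b92) (nat_lit 776))
 (.leaf (nat_lit 0x3dc62b09d) (nat_lit 1025))
)) (.node (nat_lit 0x3dc6cb761) (.leaf (nat_lit 0x3dc62bf62) (nat_lit 769))
 (.node (nat_lit 0x3dc6cb89e) (.leaf (nat_lit 0x3dc6cb761) (nat_lit 1027))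
 (.leaf (nat_lit 0x3dc6cb89e) (nat_lit 771))
)))))) (.node (nat_lit 0x3f3504481) (.node (nat_lit 0x3dce2807d) (.node (nat_lit 0x3dcad8391) (.node (nat_lit 0x3dc9d4f62) (.node (nat_lit 0x3dc93489e) (.leaf (nat_lit 0x3dc934761) (nat_lit 775))
 (.node (nat_lit 0x3dc9d409d) (.leaf (nat_lit 0x3dc93489e) (nat_lit 1031))
 (.leaf (nat_lit 0x3dc9d409d) (nat_lit 770))
)) (.node (nat_lit 0x3dca3846d) (.leaf (nat_lit 0x3dc9d4f62) (nat_lit 1026))
 (.node (nat_lit 0x3dca38b92) (.leaf (nat_lit 0x3dca3846d) (nat_lit 776))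
 (.leaf (nat_lit 0x3dca38b92) (nat_lit 1032))
))) (.node (nat_lit 0x3dcd24c8e) (.node (nat_lit 0x3dcad8c6e) (.leaf (nat_lit 0x3dcad8391) (nat_lit 770))
 (.node (nat_lit 0x3dcd24371) (.leaf (nat_lit 0x3dcad8c6e) (nat_lit 1026))
 (.leaf (nat_lit 0x3dcd24371) (nat_lit 775))
)) (.node (nat_lit 0x3dcdc448d) (.leaf (nat_lit 0x3dcd24c8e) (nat_lit 1031))
 (.node (nat_lit 0x3dcdc4b72) (.leaf (nat_lit 0x3dcdc448d) (nat_lit 775))
 (.leaf (nat_lit 0x3dcdc4b72) (nat_lit 1031))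
)))) (.node (nat_lit 0x3f31db352) (.node (nat_lit 0x3dcec887e) (.node (nat_lit 0x3dce28f82) (.leaf (nat_lit 0x3dce2807d) (nat_lit 776))
 (.node (nat_lit 0x3dcec8781) (.leaf (nat_lit 0x3dce28f82) (nat_lit 1032))
 (.leaf (nat_lit 0x3dcec8781) (nat_lit 1026))
)) (.node (nat_lit 0x3f3114091) (.leaf (nat_lit 0x3dcec887e) (nat_lit 1282))
 (.node (nat_lit 0x3f3114f6e) (.leaf (nat_lit 0x3f3114091) (nat_lit 776))
 (.leaf (nat_lit 0x3f3114f6e) (nat_lit 1032))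
))) (.node (nat_lit 0x3f3218c62) (.node (nat_lit 0x3f31dbcad) (.leaf (nat_lit 0x3f31db352) (nat_lit 1287))
 (.node (nat_lit 0x3f321839d) (.leaf (nat_lit 0x3f31dbcad) (nat_lit 1031))
 (.leaf (nat_lit 0x3f321839d) (nat_lit 775))
)) (.node (nat_lit 0x3f32d705e) (.leaf (nat_lit 0x3f3218c62) (nat_lit 1031))
 (.node (nat_lit 0x3f32d7fa1) (.leaf (nat_lit 0x3f32d705e) (nat_lit 1289))
 (.leaf (nat_lit 0x3f32d7fa1) (nat_lit 1033))
))))) (.node (nat_lit 0x3f3a34742) (.node (nat_lit 0x3f36c744e) (.node (nat_lit 0x3f35cb8bd) (.node (nat_lit 0x3f3504b7e) (.leaf (nat_lit 0x3f3504481) (nat_lit 776))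
 (.node (nat_lit 0x3f35cb742) (.leaf (nat_lit 0x3f3504b7e) (nat_lit 1032))
 (.leaf (nat_lit 0x3f35cb742) (nat_lit 1287))
)) (.node (nat_lit 0x3f360878d) (.leaf (nat_lit 0x3f35cb8bd) (nat_lit 1031))
 (.node (nat_lit 0x3f3608872) (.leaf (nat_lit 0x3f360878d) (nat_lit 776))
 (.leaf (nat_lit 0x3f3608872) (nat_lit 1032))
))) (.node (nat_lit 0x3f3938bb1) (.node (nat_lit 0x3f36c7bb1) (.leaf (nat_lit 0x3f36c744e) (nat_lit 1289))
 (.node (nat_lit 0x3f393844e) (.leaf (nat_lit 0x3f36c7bb1) (nat_lit 1033))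
 (.leaf (nat_lit 0x3f393844e) (nat_lit 1030))
)) (.node (nat_lit 0x3f39f778d) (.leaf (nat_lit 0x3f3938bb1) (nat_lit 1286))
 (.node (nat_lit 0x3f39f7872) (.leaf (nat_lit 0x3f39f778d) (nat_lit 1289))
 (.leaf (nat_lit 0x3f39f7872) (nat_lit 1033))
)))) (.node (nat_lit 0x3f3de739d) (.node (nat_lit 0x3f3afbb7e) (.node (nat_lit 0x3f3a348bd) (.leaf (nat_lit 0x3f3a34742) (nat_lit 1030))
 (.node (nat_lit 0x3f3afb481) (.leaf (nat_lit 0x3f3a348bd) (nat_lit 1286))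
 (.leaf (nat_lit 0x3f3afb481) (nat_lit 1032))
)) (.node (nat_lit 0x3f3d2805e) (.leaf (nat_lit 0x3f3afbb7e) (nat_lit 776))
 (.node (nat_lit 0x3f3d28fa1) (.leaf (nat_lit 0x3f3d2805e) (nat_lit 1030))
 (.leaf (nat_lit 0x3f3d28fa1) (nat_lit 1286))
))) (.node (nat_lit 0x3f3e24cad) (.node (nat_lit 0x3f3de7c62) (.leaf (nat_lit 0x3f3de739d) (nat_lit 1031))
 (.node (nat_lit 0x3f3e24352) (.leaf (nat_lit 0x3f3de7c62) (nat_lit 775))
 (.leaf (nat_lit 0x3f3e24352) (nat_lit 1030))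
)) (.node (nat_lit 0x3f3eeb091) (.leaf (nat_lit 0x3f3e24cad) (nat_lit 1286))
 (.node (nat_lit 0x3f3eebf6e) (.leaf (nat_lit 0x3f3eeb091) (nat_lit 1031))
 (.leaf (nat_lit 0x3f3eebf6e) (nat_lit 775))
)))))))) (.node (nat_lit 0x7cc1144ae) (.node (nat_lit 0x4dc90b05e) (.node (nat_lit 0x4ccd28761) (.node (nat_lit 0x4cc63708d) (.node (nat_lit 0x4cc2d7761) (.node (nat_lit 0x4cc1dbb92) (.node (nat_lit 0x4cc12b86e) (.leaf (nat_lit 0x4cc12b791) (nat_lit 1031))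
 (.node (nat_lit 0x4cc1db46d) (.leaf (nat_lit 0x4cc12b86e) (nat_lit 775))
 (.leaf (nat_lit 0x4cc1db46d) (nat_lit 1028))
)) (.node (nat_lit 0x4cc22749d) (.leaf (nat_lit 0x4cc1dbb92) (nat_lit 772))
 (.node (nat_lit 0x4cc227b62) (.leaf (nat_lit 0x4cc22749d) (nat_lit 1025))
 (.leaf (nat_lit 0x4cc227b62) (nat_lit 769))
))) (.node (nat_lit 0x4cc53bc7e) (.node (nat_lit 0x4cc2d789e) (.leaf (nat_lit 0x4cc2d7761) (nat_lit 1033))
 (.node (nat_lit 0x4cc53b381) (.leaf (nat_lit 0x4cc2d789e) (nat_lit 777))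
 (.leaf (nat_lit 0x4cc53b381) (nat_lit 1025))
)) (.node (nat_lit 0x4cc5cb07d) (.leaf (nat_lit 0x4cc53bc7e) (nat_lit 769))
 (.node (nat_lit 0x4cc5cbf82) (.leaf (nat_lit 0x4cc5cb07d) (nat_lit 1027))
 (.leaf (nat_lit 0x4cc5cbf82) (nat_lit 771))
)))) (.node (nat_lit 0x4cc9c808d) (.node (nat_lit 0x4cc6c7c8e) (.node (nat_lit 0x4cc637f72) (.leaf (nat_lit 0x4cc63708d) (nat_lit 1029))
 (.node (nat_lit 0x4cc6c7371) (.leaf (nat_lit 0x4cc637f72) (nat_lit 773))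
 (.leaf (nat_lit 0x4cc6c7371) (nat_lit 1033))
)) (.node (nat_lit 0x4cc938371) (.leaf (nat_lit 0x4cc6c7c8e) (nat_lit 777))
 (.node (nat_lit 0x4cc938c8e) (.leaf (nat_lit 0x4cc938371) (nat_lit 777))
 (.leaf (nat_lit 0x4cc938c8e) (nat_lit 1033))
))) (.node (nat_lit 0x4cca34f82) (.node (nat_lit 0x4cc9c8f72) (.leaf (nat_lit 0x4cc9c808d) (nat_lit 776))
 (.node (nat_lit 0x4cca3407d) (.leaf (nat_lit 0x4cc9c8f72) (nat_lit 1032))
 (.leaf (nat_lit 0x4cca3407d) (nat_lit 775))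
)) (.node (nat_lit 0x4ccac4381) (.leaf (nat_lit 0x4cca34f82) (nat_lit 1031))
 (.node (nat_lit 0x4ccac4c7e) (.leaf (nat_lit 0x4ccac4381) (nat_lit 770))
 (.leaf (nat_lit 0x4ccac4c7e) (nat_lit 1026))
))))) (.node (nat_lit 0x4dc2043b2) (.node (nat_lit 0x4cced4791) (.node (nat_lit 0x4ccdd8b62) (.node (nat_lit 0x4ccd2889e) (.leaf (nat_lit 0x4ccd28761) (nat_lit 777))
 (.node (nat_lit 0x4ccdd849d) (.leaf (nat_lit 0x4ccd2889e) (nat_lit 1033))
 (.leaf (nat_lit 0x4ccdd849d) (nat_lit 770))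
)) (.node (nat_lit 0x4cce2446d) (.leaf (nat_lit 0x4ccdd8b62) (nat_lit 1026))
 (.node (nat_lit 0x4cce24b92) (.leaf (nat_lit 0x4cce2446d) (nat_lit 775))
 (.leaf (nat_lit 0x4cce24b92) (nat_lit 1031))
))) (.node (nat_lit 0x4dc108f41) (.node (nat_lit 0x4cced486e) (.leaf (nat_lit 0x4cced4791) (nat_lit 1031))
 (.node (nat_lit 0x4dc1080be) (.leaf (nat_lit 0x4cced486e) (nat_lit 1287))
 (.leaf (nat_lit 0x4dc1080be) (nat_lit 1033))
)) (.node (nat_lit 0x4dc1e8742) (.leaf (nat_lit 0x4dc108f41) (nat_lit 1289))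
 (.node (nat_lit 0x4dc1e88bd) (.leaf (nat_lit 0x4dc1e8742) (nat_lit 1026))
 (.leaf (nat_lit 0x4dc1e88bd) (nat_lit 1282))
)))) (.node (nat_lit 0x4dc5f8352) (.node (nat_lit 0x4dc2e4bb1) (.node (nat_lit 0x4dc204c4d) (.leaf (nat_lit 0x4dc2043b2) (nat_lit 776))
 (.node (nat_lit 0x4dc2e444e) (.leaf (nat_lit 0x4dc204c4d) (nat_lit 1032))
 (.leaf (nat_lit 0x4dc2e444e) (nat_lit 1026))
)) (.node (nat_lit 0x4dc5184ae) (.leaf (nat_lit 0x4dc2e4bb1) (nat_lit 1282))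
 (.node (nat_lit 0x4dc518b51) (.leaf (nat_lit 0x4dc5184ae) (nat_lit 521))
 (.leaf (nat_lit 0x4dc518b51) (nat_lit 777))
))) (.node (nat_lit 0x4dc61485d) (.node (nat_lit 0x4dc5f8cad) (.leaf (nat_lit 0x4dc5f8352) (nat_lit 1032))
 (.node (nat_lit 0x4dc6147a2) (.leaf (nat_lit 0x4dc5f8cad) (nat_lit 1288))
 (.leaf (nat_lit 0x4dc6147a2) (nat_lit 519))
)) (.node (nat_lit 0x4dc6f405e) (.leaf (nat_lit 0x4dc61485d) (nat_lit 775))
 (.node (nat_lit 0x4dc6f4fa1) (.leaf (nat_lit 0x4dc6f405e) (nat_lit 1026))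
 (.leaf (nat_lit 0x4dc6f4fa1) (nat_lit 1282))
)))))) (.node (nat_lit 0x4ef50809d) (.node (nat_lit 0x4dce17742) (.node (nat_lit 0x4dcae74ae) (.node (nat_lit 0x4dc9eb85d) (.node (nat_lit 0x4dc90bfa1) (.leaf (nat_lit 0x4dc90b05e) (nat_lit 1287))
 (.node (nat_lit 0x4dc9eb7a2) (.leaf (nat_lit 0x4dc90bfa1) (nat_lit 1031))
 (.leaf (nat_lit 0x4dc9eb7a2) (nat_lit 1287))
)) (.node (nat_lit 0x4dca07352) (.leaf (nat_lit 0x4dc9eb85d) (nat_lit 1031))
 (.node (nat_lit 0x4dca07cad) (.leaf (nat_lit 0x4dca07352) (nat_lit 1285))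
 (.leaf (nat_lit 0x4dca07cad) (nat_lit 1029))
))) (.node (nat_lit 0x4dcd1bbb1) (.node (nat_lit 0x4dcae7b51) (.leaf (nat_lit 0x4dcae74ae) (nat_lit 1289))
 (.node (nat_lit 0x4dcd1b44e) (.leaf (nat_lit 0x4dcae7b51) (nat_lit 1033))
 (.leaf (nat_lit 0x4dcd1b44e) (nat_lit 1281))
)) (.node (nat_lit 0x4dcdfb3b2) (.leaf (nat_lit 0x4dcd1bbb1) (nat_lit 1025))
 (.node (nat_lit 0x4dcdfbc4d) (.leaf (nat_lit 0x4dcdfb3b2) (nat_lit 1283))
 (.leaf (nat_lit 0x4dcdfbc4d) (nat_lit 1027))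
)))) (.node (nat_lit 0x4ef1cb04e) (.node (nat_lit 0x4dcef7f41) (.node (nat_lit 0x4dce178bd) (.leaf (nat_lit 0x4dce17742) (nat_lit 1281))
 (.node (nat_lit 0x4dcef70be) (.leaf (nat_lit 0x4dce178bd) (nat_lit 1025))
 (.leaf (nat_lit 0x4dcef70be) (nat_lit 1289))
)) (.node (nat_lit 0x4ef11848d) (.leaf (nat_lit 0x4dcef7f41) (nat_lit 1033))
 (.node (nat_lit 0x4ef118b72) (.leaf (nat_lit 0x4ef11848d) (nat_lit 775))
 (.leaf (nat_lit 0x4ef118b72) (nat_lit 1031))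
))) (.node (nat_lit 0x4ef21487e) (.node (nat_lit 0x4ef1cbfb1) (.leaf (nat_lit 0x4ef1cb04e) (nat_lit 1030))
 (.node (nat_lit 0x4ef214781) (.leaf (nat_lit 0x4ef1cbfb1) (nat_lit 774))
 (.leaf (nat_lit 0x4ef214781) (nat_lit 518))
)) (.node (nat_lit 0x4ef2c7342) (.leaf (nat_lit 0x4ef21487e) (nat_lit 774))
 (.node (nat_lit 0x4ef2c7cbd) (.leaf (nat_lit 0x4ef2c7342) (nat_lit 1031))
 (.leaf (nat_lit 0x4ef2c7cbd) (nat_lit 775))
))))) (.node (nat_lit 0x4efa2445e) (.node (nat_lit 0x4ef6d7752) (.node (nat_lit 0x4ef5dbba1) (.node (nat_lit 0x4ef508f62) (.leaf (nat_lit 0x4ef50809d) (nat_lit 770))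
 (.node (nat_lit 0x4ef5db45e) (.leaf (nat_lit 0x4ef508f62) (nat_lit 1026))
 (.leaf (nat_lit 0x4ef5db45e) (nat_lit 1030))
)) (.node (nat_lit 0x4ef604391) (.leaf (nat_lit 0x4ef5dbba1) (nat_lit 774))
 (.node (nat_lit 0x4ef604c6e) (.leaf (nat_lit 0x4ef604391) (nat_lit 1030))
 (.leaf (nat_lit 0x4ef604c6e) (nat_lit 1286))
))) (.node (nat_lit 0x4ef9288ad) (.node (nat_lit 0x4ef6d78ad) (.leaf (nat_lit 0x4ef6d7752) (nat_lit 1027))
 (.node (nat_lit 0x4ef928752) (.leaf (nat_lit 0x4ef6d78ad) (nat_lit 771))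
 (.leaf (nat_lit 0x4ef928752) (nat_lit 775))
)) (.node (nat_lit 0x4ef9fb391) (.leaf (nat_lit 0x4ef9288ad) (nat_lit 1031))
 (.node (nat_lit 0x4ef9fbc6e) (.leaf (nat_lit 0x4ef9fb391) (nat_lit 1286))
 (.leaf (nat_lit 0x4ef9fbc6e) (nat_lit 1030))
)))) (.node (nat_lit 0x4efdeb781) (.node (nat_lit 0x4efaf7f62) (.node (nat_lit 0x4efa24ba1) (.leaf (nat_lit 0x4efa2445e) (nat_lit 774))
 (.node (nat_lit 0x4efaf709d) (.leaf (nat_lit 0x4efa24ba1) (nat_lit 1030))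
 (.leaf (nat_lit 0x4efaf709d) (nat_lit 1025))
)) (.node (nat_lit 0x4efd38342) (.leaf (nat_lit 0x4efaf7f62) (nat_lit 769))
 (.node (nat_lit 0x4efd38cbd) (.leaf (nat_lit 0x4efd38342) (nat_lit 772))
 (.leaf (nat_lit 0x4efd38cbd) (nat_lit 1028))
))) (.node (nat_lit 0x4efe34fb1) (.node (nat_lit 0x4efdeb87e) (.leaf (nat_lit 0x4efdeb781) (nat_lit 1286))
 (.node (nat_lit 0x4efe3404e) (.leaf (nat_lit 0x4efdeb87e) (nat_lit 1030))
 (.leaf (nat_lit 0x4efe3404e) (nat_lit 774))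
)) (.node (nat_lit 0x4efee748d) (.leaf (nat_lit 0x4efe34fb1) (nat_lit 1030))
 (.node (nat_lit 0x4efee7b72) (.leaf (nat_lit 0x4efee748d) (nat_lit 1031))
 (.leaf (nat_lit 0x4efee7b72) (nat_lit 775))
))))))) (.node (nat_lit 0x7d092846d) (.node (nat_lit 0x7ccd1745e) (.node (nat_lit 0x7cc6083b2) (.node (nat_lit 0x7cc2e845e) (.node (nat_lit 0x7cc1e48ad) (.node (nat_lit 0x7cc114b51) (.leaf (nat_lit 0x7cc1144ae) (nat_lit 519))
 (.node (nat_lit 0x7cc1e4752) (.leaf (nat_lit 0x7cc114b51) (nat_lit 775))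
 (.leaf (nat_lit 0x7cc1e4752) (nat_lit 1031))
)) (.node (nat_lit 0x7cc2187a2) (.leaf (nat_lit 0x7cc1e48ad) (nat_lit 1287))
 (.node (nat_lit 0x7cc21885d) (.leaf (nat_lit 0x7cc2187a2) (nat_lit 1031))
 (.leaf (nat_lit 0x7cc21885d) (nat_lit 1287))
))) (.node (nat_lit 0x7cc504f41) (.node (nat_lit 0x7cc2e8ba1) (.leaf (nat_lit 0x7cc2e845e) (nat_lit 1026))
 (.node (nat_lit 0x7cc5040be) (.leaf (nat_lit 0x7cc2e8ba1) (nat_lit 1282))
 (.leaf (nat_lit 0x7cc5040be) (nat_lit 777))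
)) (.node (nat_lit 0x7cc5f4342) (.leaf (nat_lit 0x7cc504f41) (nat_lit 1033))
 (.node (nat_lit 0x7cc5f4cbd) (.leaf (nat_lit 0x7cc5f4342) (nat_lit 1026))
 (.leaf (nat_lit 0x7cc5f4cbd) (nat_lit 1282))
)))) (.node (nat_lit 0x7cc9f73b2) (.node (nat_lit 0x7cc6f8fb1) (.node (nat_lit 0x7cc608c4d) (.leaf (nat_lit 0x7cc6083b2) (nat_lit 520))
 (.node (nat_lit 0x7cc6f804e) (.leaf (nat_lit 0x7cc608c4d) (nat_lit 776))
 (.leaf (nat_lit 0x7cc6f804e) (nat_lit 1026))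
)) (.node (nat_lit 0x7cc90704e) (.leaf (nat_lit 0x7cc6f8fb1) (nat_lit 1282))
 (.node (nat_lit 0x7cc907fb1) (.leaf (nat_lit 0x7cc90704e) (nat_lit 1289))
 (.leaf (nat_lit 0x7cc907fb1) (nat_lit 1033))
))) (.node (nat_lit 0x7cca0bcbd) (.node (nat_lit 0x7cc9f7c4d) (.leaf (nat_lit 0x7cc9f73b2) (nat_lit 1288))
 (.node (nat_lit 0x7cca0b342) (.leaf (nat_lit 0x7cc9f7c4d) (nat_lit 1032))
 (.leaf (nat_lit 0x7cca0b342) (nat_lit 1281))
)) (.node (nat_lit 0x7ccafb0be) (.leaf (nat_lit 0x7cca0bcbd) (nat_lit 1025))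
 (.node (nat_lit 0x7ccafbf41) (.leaf (nat_lit 0x7ccafb0be) (nat_lit 1288))
 (.leaf (nat_lit 0x7ccafbf41) (nat_lit 1032))
))))) (.node (nat_lit 0x7d022b481) (.node (nat_lit 0x7cceeb4ae) (.node (nat_lit 0x7ccde785d) (.node (nat_lit 0x7ccd17ba1) (.leaf (nat_lit 0x7ccd1745e) (nat_lit 1289))
 (.node (nat_lit 0x7ccde77a2) (.leaf (nat_lit 0x7ccd17ba1) (nat_lit 1033))
 (.leaf (nat_lit 0x7ccde77a2) (nat_lit 1288))
)) (.node (nat_lit 0x7cce1b752) (.leaf (nat_lit 0x7ccde785d) (nat_lit 1032))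
 (.node (nat_lit 0x7cce1b8ad) (.leaf (nat_lit 0x7cce1b752) (nat_lit 1287))
 (.leaf (nat_lit 0x7cce1b8ad) (nat_lit 1031))
))) (.node (nat_lit 0x7d0127872) (.node (nat_lit 0x7cceebb51) (.leaf (nat_lit 0x7cceeb4ae) (nat_lit 1287))
 (.node (nat_lit 0x7d012778d) (.leaf (nat_lit 0x7cceebb51) (nat_lit 1031))
 (.leaf (nat_lit 0x7d012778d) (nat_lit 775))
)) (.node (nat_lit 0x7d01cb371) (.leaf (nat_lit 0x7d0127872) (nat_lit 519))
 (.node (nat_lit 0x7d01cbc8e) (.leaf (nat_lit 0x7d01cb371) (nat_lit 772))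
 (.leaf (nat_lit 0x7d01cbc8e) (nat_lit 516))
)))) (.node (nat_lit 0x7d05db761) (.node (nat_lit 0x7d02c7f82) (.node (nat_lit 0x7d022bb7e) (.leaf (nat_lit 0x7d022b481) (nat_lit 775))
 (.node (nat_lit 0x7d02c707d) (.leaf (nat_lit 0x7d022bb7e) (nat_lit 519))
 (.leaf (nat_lit 0x7d02c707d) (nat_lit 1284))
)) (.node (nat_lit 0x7d053739d) (.leaf (nat_lit 0x7d02c7f82) (nat_lit 1028))
 (.node (nat_lit 0x7d0537c62) (.leaf (nat_lit 0x7d053739d) (nat_lit 769))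
 (.leaf (nat_lit 0x7d0537c62) (nat_lit 513))
))) (.node (nat_lit 0x7d063bf6e) (.node (nat_lit 0x7d05db89e) (.leaf (nat_lit 0x7d05db761) (nat_lit 771))
 (.node (nat_lit 0x7d063b091) (.leaf (nat_lit 0x7d05db89e) (nat_lit 515))
 (.leaf (nat_lit 0x7d063b091) (nat_lit 1281))
)) (.node (nat_lit 0x7d06d746d) (.leaf (nat_lit 0x7d063bf6e) (nat_lit 1025))
 (.node (nat_lit 0x7d06d7b92) (.leaf (nat_lit 0x7d06d746d) (nat_lit 1283))
 (.leaf (nat_lit 0x7d06d7b92) (nat_lit 1027))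
)))))) (.node (nat_lit 0x7e3518791) (.node (nat_lit 0x7d0e34371) (.node (nat_lit 0x7d0ac839d) (.node (nat_lit 0x7d09c4f6e) (.node (nat_lit 0x7d0928b92) (.leaf (nat_lit 0x7d092846d) (nat_lit 1031))
 (.node (nat_lit 0x7d09c4091) (.leaf (nat_lit 0x7d0928b92) (nat_lit 1287))
 (.leaf (nat_lit 0x7d09c4091) (nat_lit 1026))
)) (.node (nat_lit 0x7d0a24761) (.leaf (nat_lit 0x7d09c4f6e) (nat_lit 1282))
 (.node (nat_lit 0x7d0a2489e) (.leaf (nat_lit 0x7d0a24761) (nat_lit 519))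
 (.leaf (nat_lit 0x7d0a2489e) (nat_lit 775))
))) (.node (nat_lit 0x7d0d38f82) (.node (nat_lit 0x7d0ac8c62) (.leaf (nat_lit 0x7d0ac839d) (nat_lit 514))
 (.node (nat_lit 0x7d0d3807d) (.leaf (nat_lit 0x7d0ac8c62) (nat_lit 770))
 (.leaf (nat_lit 0x7d0d3807d) (nat_lit 1031))
)) (.node (nat_lit 0x7d0dd4481) (.leaf (nat_lit 0x7d0d38f82) (nat_lit 1287))
 (.node (nat_lit 0x7d0dd4b7e) (.leaf (nat_lit 0x7d0dd4481) (nat_lit 1031))
 (.leaf (nat_lit 0x7d0dd4b7e) (nat_lit 1287))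
)))) (.node (nat_lit 0x7e31d7442) (.node (nat_lit 0x7d0ed8872) (.node (nat_lit 0x7d0e34c8e) (.leaf (nat_lit 0x7d0e34371) (nat_lit 519))
 (.node (nat_lit 0x7d0ed878d) (.leaf (nat_lit 0x7d0e34c8e) (nat_lit 775))
 (.leaf (nat_lit 0x7d0ed878d) (nat_lit 519))
)) (.node (nat_lit 0x7e3108381) (.leaf (nat_lit 0x7d0ed8872) (nat_lit 775))
 (.node (nat_lit 0x7e3108c7e) (.leaf (nat_lit 0x7e3108381) (nat_lit 1031))
 (.leaf (nat_lit 0x7e3108c7e) (nat_lit 1287))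
))) (.node (nat_lit 0x7e3204f72) (.node (nat_lit 0x7e31d7bbd) (.leaf (nat_lit 0x7e31d7442) (nat_lit 1287))
 (.node (nat_lit 0x7e320408d) (.leaf (nat_lit 0x7e31d7bbd) (nat_lit 1031))
 (.leaf (nat_lit 0x7e320408d) (nat_lit 1031))
)) (.node (nat_lit 0x7e32db74e) (.leaf (nat_lit 0x7e3204f72) (nat_lit 1287))
 (.node (nat_lit 0x7e32db8b1) (.leaf (nat_lit 0x7e32db74e) (nat_lit 1288))
 (.leaf (nat_lit 0x7e32db8b1) (nat_lit 1032))
))))) (.node (nat_lit 0x7e3a38052) (.node (nat_lit 0x7e36cb35e) (.node (nat_lit 0x7e35c7fad) (.node (nat_lit 0x7e351886e) (.leaf (nat_lit 0x7e3518791) (nat_lit 774))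
 (.node (nat_lit 0x7e35c7052) (.leaf (nat_lit 0x7e351886e) (nat_lit 1030))
 (.leaf (nat_lit 0x7e35c7052) (nat_lit 1287))
)) (.node (nat_lit 0x7e361449d) (.leaf (nat_lit 0x7e35c7fad) (nat_lit 1031))
 (.node (nat_lit 0x7e3614b62) (.leaf (nat_lit 0x7e361449d) (nat_lit 774))
 (.leaf (nat_lit 0x7e3614b62) (nat_lit 1030))
))) (.node (nat_lit 0x7e3934ca1) (.node (nat_lit 0x7e36cbca1) (.leaf (nat_lit 0x7e36cb35e) (nat_lit 1288))
 (.node (nat_lit 0x7e393435e) (.leaf (nat_lit 0x7e36cbca1) (nat_lit 1032))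
 (.leaf (nat_lit 0x7e393435e) (nat_lit 1032))
)) (.node (nat_lit 0x7e39eb49d) (.leaf (nat_lit 0x7e3934ca1) (nat_lit 1288))
 (.node (nat_lit 0x7e39ebb62) (.leaf (nat_lit 0x7e39eb49d) (nat_lit 1031))
 (.leaf (nat_lit 0x7e39ebb62) (nat_lit 775))
)))) (.node (nat_lit 0x7e3dfb08d) (.node (nat_lit 0x7e3ae786e) (.node (nat_lit 0x7e3a38fad) (.leaf (nat_lit 0x7e3a38052) (nat_lit 1028))
 (.node (nat_lit 0x7e3ae7791) (.leaf (nat_lit 0x7e3a38fad) (nat_lit 1284))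
 (.leaf (nat_lit 0x7e3ae7791) (nat_lit 1033))
)) (.node (nat_lit 0x7e3d2474e) (.leaf (nat_lit 0x7e3ae786e) (nat_lit 777))
 (.node (nat_lit 0x7e3d248b1) (.leaf (nat_lit 0x7e3d2474e) (nat_lit 1032))
 (.leaf (nat_lit 0x7e3d248b1) (nat_lit 1288))
))) (.node (nat_lit 0x7e3e28bbd) (.node (nat_lit 0x7e3dfbf72) (.leaf (nat_lit 0x7e3dfb08d) (nat_lit 1287))
 (.node (nat_lit 0x7e3e28442) (.leaf (nat_lit 0x7e3dfbf72) (nat_lit 1031))
 (.leaf (nat_lit 0x7e3e28442) (nat_lit 1027))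
)) (.node (nat_lit 0x7e3ef7381) (.leaf (nat_lit 0x7e3e28bbd) (nat_lit 1283))
 (.node (nat_lit 0x7e3ef7c7e) (.leaf (nat_lit 0x7e3ef7381) (nat_lit 1287))
 (.leaf (nat_lit 0x7e3ef7c7e) (nat_lit 1031))
))))))))) (.node (nat_lit 0xc101377b2) (.node (nat_lit 0xb0c118491) (.node (nat_lit 0x81090706d) (.node (nat_lit 0x80cd2475e) (.node (nat_lit 0x80c63b0b2) (.node (nat_lit 0x80c2db75e) (.node (nat_lit 0x80c1d7bad) (.node (nat_lit 0x80c127851) (.leaf (nat_lit 0x80c1277ae) (nat_lit 777))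
 (.node (nat_lit 0x80c1d7452) (.leaf (nat_lit 0x80c127851) (nat_lit 521))
 (.leaf (nat_lit 0x80c1d7452) (nat_lit 1288))
)) (.node (nat_lit 0x80c22b4a2) (.leaf (nat_lit 0x80c1d7bad) (nat_lit 1032))
 (.node (nat_lit 0x80c22bb5d) (.leaf (nat_lit 0x80c22b4a2) (nat_lit 1030))
 (.leaf (nat_lit 0x80c22bb5d) (nat_lit 774))
))) (.node (nat_lit 0x80c537c41) (.node (nat_lit 0x80c2db8a1) (.leaf (nat_lit 0x80c2db75e) (nat_lit 1288))
 (.node (nat_lit 0x80c5373be) (.leaf (nat_lit 0x80c2db8a1) (nat_lit 1032))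
 (.leaf (nat_lit 0x80c5373be) (nat_lit 1281))
)) (.node (nat_lit 0x80c5c7042) (.leaf (nat_lit 0x80c537c41) (nat_lit 1025))
 (.node (nat_lit 0x80c5c7fbd) (.leaf (nat_lit 0x80c5c7042) (nat_lit 1288))
 (.leaf (nat_lit 0x80c5c7fbd) (nat_lit 1032))
)))) (.node (nat_lit 0x80c9c40b2) (.node (nat_lit 0x80c6cbcb1) (.node (nat_lit 0x80c63bf4d) (.leaf (nat_lit 0x80c63b0b2) (nat_lit 769))
 (.node (nat_lit 0x80c6cb34e) (.leaf (nat_lit 0x80c63bf4d) (nat_lit 513))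
 (.leaf (nat_lit 0x80c6cb34e) (nat_lit 1283))
)) (.node (nat_lit 0x80c93434e) (.leaf (nat_lit 0x80c6cbcb1) (nat_lit 1027))
 (.node (nat_lit 0x80c934cb1) (.leaf (nat_lit 0x80c93434e) (nat_lit 515))
 (.leaf (nat_lit 0x80c934cb1) (nat_lit 771))
))) (.node (nat_lit 0x80ca38fbd) (.node (nat_lit 0x80c9c4f4d) (.leaf (nat_lit 0x80c9c40b2) (nat_lit 514))
 (.node (nat_lit 0x80ca38042) (.leaf (nat_lit 0x80c9c4f4d) (nat_lit 770))
 (.leaf (nat_lit 0x80ca38042) (nat_lit 520))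
)) (.node (nat_lit 0x80cac83be) (.leaf (nat_lit 0x80ca38fbd) (nat_lit 776))
 (.node (nat_lit 0x80cac8c41) (.leaf (nat_lit 0x80cac83be) (nat_lit 1026))
 (.leaf (nat_lit 0x80cac8c41) (nat_lit 1282))
))))) (.node (nat_lit 0x810204081) (.node (nat_lit 0x80ced87ae) (.node (nat_lit 0x80cdd4b5d) (.node (nat_lit 0x80cd248a1) (.leaf (nat_lit 0x80cd2475e) (nat_lit 1032))
 (.node (nat_lit 0x80cdd44a2) (.leaf (nat_lit 0x80cd248a1) (nat_lit 1288))
 (.leaf (nat_lit 0x80cdd44a2) (nat_lit 774))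
)) (.node (nat_lit 0x80ce28452) (.leaf (nat_lit 0x80cdd4b5d) (nat_lit 1030))
 (.node (nat_lit 0x80ce28bad) (.leaf (nat_lit 0x80ce28452) (nat_lit 520))
 (.leaf (nat_lit 0x80ce28bad) (nat_lit 776))
))) (.node (nat_lit 0x810108c72) (.node (nat_lit 0x80ced8851) (.leaf (nat_lit 0x80ced87ae) (nat_lit 774))
 (.node (nat_lit 0x81010838d) (.leaf (nat_lit 0x80ced8851) (nat_lit 1030))
 (.leaf (nat_lit 0x81010838d) (nat_lit 517))
)) (.node (nat_lit 0x8101e4771) (.leaf (nat_lit 0x810108c72) (nat_lit 773))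
 (.node (nat_lit 0x8101e488e) (.leaf (nat_lit 0x8101e4771) (nat_lit 1029))
 (.leaf (nat_lit 0x8101e488e) (nat_lit 1285))
)))) (.node (nat_lit 0x8105f4361) (.node (nat_lit 0x8102e8b82) (.node (nat_lit 0x810204f7e) (.leaf (nat_lit 0x810204081) (nat_lit 0))
 (.node (nat_lit 0x8102e847d) (.leaf (nat_lit 0x810204f7e) (nat_lit 256))
 (.leaf (nat_lit 0x8102e847d) (nat_lit 516))
)) (.node (nat_lit 0x81051879d) (.leaf (nat_lit 0x8102e8b82) (nat_lit 772))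
 (.node (nat_lit 0x810518862) (.leaf (nat_lit 0x81051879d) (nat_lit 1029))
 (.leaf (nat_lit 0x810518862) (nat_lit 1285))
))) (.node (nat_lit 0x810614b6e) (.node (nat_lit 0x8105f4c9e) (.leaf (nat_lit 0x8105f4361) (nat_lit 1029))
 (.node (nat_lit 0x810614491) (.leaf (nat_lit 0x8105f4c9e) (nat_lit 1285))
 (.leaf (nat_lit 0x810614491) (nat_lit 515))
)) (.node (nat_lit 0x8106f806d) (.leaf (nat_lit 0x810614b6e) (nat_lit 771))
 (.node (nat_lit 0x8106f8f92) (.leaf (nat_lit 0x8106f806d) (nat_lit 515))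
 (.leaf (nat_lit 0x8106f8f92) (nat_lit 771))
)))))) (.node (nat_lit 0x8235040ae) (.node (nat_lit 0x810e1b771) (.node (nat_lit 0x810ae779d) (.node (nat_lit 0x8109ebb6e) (.node (nat_lit 0x810907f92) (.leaf (nat_lit 0x81090706d) (nat_lit 771))
 (.node (nat_lit 0x8109eb491) (.leaf (nat_lit 0x810907f92) (nat_lit 515))
 (.leaf (nat_lit 0x8109eb491) (nat_lit 1283))
)) (.node (nat_lit 0x810a0b361) (.leaf (nat_lit 0x8109ebb6e) (nat_lit 1027))
 (.node (nat_lit 0x810a0bc9e) (.leaf (nat_lit 0x810a0b361) (nat_lit 773))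
 (.leaf (nat_lit 0x810a0bc9e) (nat_lit 517))
))) (.node (nat_lit 0x810d17b82) (.node (nat_lit 0x810ae7862) (.leaf (nat_lit 0x810ae779d) (nat_lit 1285))
 (.node (nat_lit 0x810d1747d) (.leaf (nat_lit 0x810ae7862) (nat_lit 1029))
 (.leaf (nat_lit 0x810d1747d) (nat_lit 772))
)) (.node (nat_lit 0x810dfb081) (.leaf (nat_lit 0x810d17b82) (nat_lit 516))
 (.node (nat_lit 0x810dfbf7e) (.leaf (nat_lit 0x810dfb081) (nat_lit 769))
 (.leaf (nat_lit 0x810dfbf7e) (nat_lit 513))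
)))) (.node (nat_lit 0x8231cb37d) (.node (nat_lit 0x810ef7c72) (.node (nat_lit 0x810e1b88e) (.leaf (nat_lit 0x810e1b771) (nat_lit 773))
 (.node (nat_lit 0x810ef738d) (.leaf (nat_lit 0x810e1b88e) (nat_lit 517))
 (.leaf (nat_lit 0x810ef738d) (nat_lit 773))
)) (.node (nat_lit 0x8231144be) (.leaf (nat_lit 0x810ef7c72) (nat_lit 517))
 (.node (nat_lit 0x823114b41) (.leaf (nat_lit 0x8231144be) (nat_lit 1032))
 (.leaf (nat_lit 0x823114b41) (nat_lit 1288))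
))) (.node (nat_lit 0x82321884d) (.node (nat_lit 0x8231cbc82) (.leaf (nat_lit 0x8231cb37d) (nat_lit 1033))
 (.node (nat_lit 0x8232187b2) (.leaf (nat_lit 0x8231cbc82) (nat_lit 777))
 (.leaf (nat_lit 0x8232187b2) (nat_lit 769))
)) (.node (nat_lit 0x8232c7071) (.leaf (nat_lit 0x82321884d) (nat_lit 1025))
 (.node (nat_lit 0x8232c7f8e) (.leaf (nat_lit 0x8232c7071) (nat_lit 1282))
 (.leaf (nat_lit 0x8232c7f8e) (nat_lit 1026))
))))) (.node (nat_lit 0x823a2476d) (.node (nat_lit 0x8236d7461) (.node (nat_lit 0x8235db892) (.node (nat_lit 0x823504f51) (.leaf (nat_lit 0x8235040ae) (nat_lit 520))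
 (.node (nat_lit 0x8235db76d) (.leaf (nat_lit 0x823504f51) (nat_lit 776))
 (.leaf (nat_lit 0x8235db76d) (nat_lit 1289))
)) (.node (nat_lit 0x8236083a2) (.leaf (nat_lit 0x8235db892) (nat_lit 1033))
 (.node (nat_lit 0x823608c5d) (.leaf (nat_lit 0x8236083a2) (nat_lit 520))
 (.leaf (nat_lit 0x823608c5d) (nat_lit 776))
))) (.node (nat_lit 0x823928b9e) (.node (nat_lit 0x8236d7b9e) (.leaf (nat_lit 0x8236d7461) (nat_lit 1282))
 (.node (nat_lit 0x823928461) (.leaf (nat_lit 0x8236d7b9e) (nat_lit 1026))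
 (.leaf (nat_lit 0x823928461) (nat_lit 774))
)) (.node (nat_lit 0x8239f73a2) (.leaf (nat_lit 0x823928b9e) (nat_lit 1030))
 (.node (nat_lit 0x8239f7c5d) (.leaf (nat_lit 0x8239f73a2) (nat_lit 1029))
 (.leaf (nat_lit 0x8239f7c5d) (nat_lit 773))
)))) (.node (nat_lit 0x823de77b2) (.node (nat_lit 0x823afbf51) (.node (nat_lit 0x823a24892) (.leaf (nat_lit 0x823a2476d) (nat_lit 777))
 (.node (nat_lit 0x823afb0ae) (.leaf (nat_lit 0x823a24892) (nat_lit 1033))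
 (.leaf (nat_lit 0x823afb0ae) (nat_lit 776))
)) (.node (nat_lit 0x823d38071) (.leaf (nat_lit 0x823afbf51) (nat_lit 520))
 (.node (nat_lit 0x823d38f8e) (.leaf (nat_lit 0x823d38071) (nat_lit 774))
 (.leaf (nat_lit 0x823d38f8e) (nat_lit 1030))
))) (.node (nat_lit 0x823e34c82) (.node (nat_lit 0x823de784d) (.leaf (nat_lit 0x823de77b2) (nat_lit 1026))
 (.node (nat_lit 0x823e3437d) (.leaf (nat_lit 0x823de784d) (nat_lit 770))
 (.leaf (nat_lit 0x823e3437d) (nat_lit 1028))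
)) (.node (nat_lit 0x823eeb4be) (.leaf (nat_lit 0x823e34c82) (nat_lit 1284))
 (.node (nat_lit 0x823eebb41) (.leaf (nat_lit 0x823eeb4be) (nat_lit 1285))
 (.leaf (nat_lit 0x823eebb41) (nat_lit 1029))
))))))) (.node (nat_lit 0xb1c92875e) (.node (nat_lit 0xb0cd1b461) (.node (nat_lit 0xb0c60438d) (.node (nat_lit 0xb0c2e4461) (.node (nat_lit 0xb0c1e8892) (.node (nat_lit 0xb0c118b6e) (.leaf (nat_lit 0xb0c118491) (nat_lit 265))
 (.node (nat_lit 0xb0c1e876d) (.leaf (nat_lit 0xb0c118b6e) (nat_lit 521))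
 (.leaf (nat_lit 0xb0c1e876d) (nat_lit 770))
)) (.node (nat_lit 0xb0c21479d) (.leaf (nat_lit 0xb0c1e8892) (nat_lit 1026))
 (.node (nat_lit 0xb0c214862) (.leaf (nat_lit 0xb0c21479d) (nat_lit 777))
 (.leaf (nat_lit 0xb0c214862) (nat_lit 1033))
))) (.node (nat_lit 0xb0c508f7e) (.node (nat_lit 0xb0c2e4b9e) (.leaf (nat_lit 0xb0c2e4461) (nat_lit 776))
 (.node (nat_lit 0xb0c508081) (.leaf (nat_lit 0xb0c2e4b9e) (nat_lit 1032))
 (.leaf (nat_lit 0xb0c508081) (nat_lit 777))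
)) (.node (nat_lit 0xb0c5f837d) (.leaf (nat_lit 0xb0c508f7e) (nat_lit 1033))
 (.node (nat_lit 0xb0c5f8c82) (.leaf (nat_lit 0xb0c5f837d) (nat_lit 770))
 (.leaf (nat_lit 0xb0c5f8c82) (nat_lit 1026))
)))) (.node (nat_lit 0xb0c9fb38d) (.node (nat_lit 0xb0c6f4f8e) (.node (nat_lit 0xb0c604c72) (.leaf (nat_lit 0xb0c60438d) (nat_lit 772))
 (.node (nat_lit 0xb0c6f4071) (.leaf (nat_lit 0xb0c604c72) (nat_lit 1028))
 (.leaf (nat_lit 0xb0c6f4071) (nat_lit 1032))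
)) (.node (nat_lit 0xb0c90b071) (.leaf (nat_lit 0xb0c6f4f8e) (nat_lit 1288))
 (.node (nat_lit 0xb0c90bf8e) (.leaf (nat_lit 0xb0c90b071) (nat_lit 1032))
 (.leaf (nat_lit 0xb0c90bf8e) (nat_lit 776))
))) (.node (nat_lit 0xb0ca07c82) (.node (nat_lit 0xb0c9fbc72) (.leaf (nat_lit 0xb0c9fb38d) (nat_lit 1025))
 (.node (nat_lit 0xb0ca0737d) (.leaf (nat_lit 0xb0c9fbc72) (nat_lit 769))
 (.leaf (nat_lit 0xb0ca0737d) (nat_lit 1029))
)) (.node (nat_lit 0xb0caf7081) (.leaf (nat_lit 0xb0ca07c82) (nat_lit 773))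
 (.node (nat_lit 0xb0caf7f7e) (.leaf (nat_lit 0xb0caf7081) (nat_lit 1286))
 (.leaf (nat_lit 0xb0caf7f7e) (nat_lit 1030))
))))) (.node (nat_lit 0xb1c2274b2) (.node (nat_lit 0xb0cee7491) (.node (nat_lit 0xb0cdeb862) (.node (nat_lit 0xb0cd1bb9e) (.leaf (nat_lit 0xb0cd1b461) (nat_lit 1027))
 (.node (nat_lit 0xb0cdeb79d) (.leaf (nat_lit 0xb0cd1bb9e) (nat_lit 771))
 (.leaf (nat_lit 0xb0cdeb79d) (nat_lit 1033))
)) (.node (nat_lit 0xb0ce1776d) (.leaf (nat_lit 0xb0cdeb862) (nat_lit 777))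
 (.node (nat_lit 0xb0ce17892) (.leaf (nat_lit 0xb0ce1776d) (nat_lit 1025))
 (.leaf (nat_lit 0xb0ce17892) (nat_lit 769))
))) (.node (nat_lit 0xb1c12b841) (.node (nat_lit 0xb0cee7b6e) (.leaf (nat_lit 0xb0cee7491) (nat_lit 1033))
 (.node (nat_lit 0xb1c12b7be) (.leaf (nat_lit 0xb0cee7b6e) (nat_lit 777))
 (.leaf (nat_lit 0xb1c12b7be) (nat_lit 1281))
)) (.node (nat_lit 0xb1c1cb042) (.leaf (nat_lit 0xb1c12b841) (nat_lit 1025))
 (.node (nat_lit 0xb1c1cbfbd) (.leaf (nat_lit 0xb1c1cb042) (nat_lit 1289))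
 (.leaf (nat_lit 0xb1c1cbfbd) (nat_lit 1033))
)))) (.node (nat_lit 0xb1c5db452) (.node (nat_lit 0xb1c2c7cb1) (.node (nat_lit 0xb1c227b4d) (.leaf (nat_lit 0xb1c2274b2) (nat_lit 769))
 (.node (nat_lit 0xb1c2c734e) (.leaf (nat_lit 0xb1c227b4d) (nat_lit 513))
 (.leaf (nat_lit 0xb1c2c734e) (nat_lit 1289))
)) (.node (nat_lit 0xb1c53b3ae) (.leaf (nat_lit 0xb1c2c7cb1) (nat_lit 1033))
 (.node (nat_lit 0xb1c53bc51) (.leaf (nat_lit 0xb1c53b3ae) (nat_lit 1032))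
 (.leaf (nat_lit 0xb1c53bc51) (nat_lit 776))
))) (.node (nat_lit 0xb1c637f5d) (.node (nat_lit 0xb1c5dbbad) (.leaf (nat_lit 0xb1c5db452) (nat_lit 1284))
 (.node (nat_lit 0xb1c6370a2) (.leaf (nat_lit 0xb1c5dbbad) (nat_lit 1028))
 (.leaf (nat_lit 0xb1c6370a2) (nat_lit 773))
)) (.node (nat_lit 0xb1c6d775e) (.leaf (nat_lit 0xb1c637f5d) (nat_lit 517))
 (.node (nat_lit 0xb1c6d78a1) (.leaf (nat_lit 0xb1c6d775e) (nat_lit 1289))
 (.leaf (nat_lit 0xb1c6d78a1) (nat_lit 1033))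
)))))) (.node (nat_lit 0xb2f5184a2) (.node (nat_lit 0xb1ce34042) (.node (nat_lit 0xb1cac43ae) (.node (nat_lit 0xb1c9c8f5d) (.node (nat_lit 0xb1c9288a1) (.leaf (nat_lit 0xb1c92875e) (nat_lit 521))
 (.node (nat_lit 0xb1c9c80a2) (.leaf (nat_lit 0xb1c9288a1) (nat_lit 777))
 (.leaf (nat_lit 0xb1c9c80a2) (nat_lit 776))
)) (.node (nat_lit 0xb1ca24452) (.leaf (nat_lit 0xb1c9c8f5d) (nat_lit 1032))
 (.node (nat_lit 0xb1ca24bad) (.leaf (nat_lit 0xb1ca24452) (nat_lit 516))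
 (.leaf (nat_lit 0xb1ca24bad) (nat_lit 772))
))) (.node (nat_lit 0xb1cd38cb1) (.node (nat_lit 0xb1cac4c51) (.leaf (nat_lit 0xb1cac43ae) (nat_lit 776))
 (.node (nat_lit 0xb1cd3834e) (.leaf (nat_lit 0xb1cac4c51) (nat_lit 1032))
 (.leaf (nat_lit 0xb1cd3834e) (nat_lit 521))
)) (.node (nat_lit 0xb1cdd84b2) (.leaf (nat_lit 0xb1cd38cb1) (nat_lit 777))
 (.node (nat_lit 0xb1cdd8b4d) (.leaf (nat_lit 0xb1cdd84b2) (nat_lit 514))
 (.leaf (nat_lit 0xb1cdd8b4d) (nat_lit 770))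
)))) (.node (nat_lit 0xb2f1db471) (.node (nat_lit 0xb1ced4841) (.node (nat_lit 0xb1ce34fbd) (.leaf (nat_lit 0xb1ce34042) (nat_lit 1033))
 (.node (nat_lit 0xb1ced47be) (.leaf (nat_lit 0xb1ce34fbd) (nat_lit 1289))
 (.leaf (nat_lit 0xb1ced47be) (nat_lit 1026))
)) (.node (nat_lit 0xb2f1080b2) (.leaf (nat_lit 0xb1ced4841) (nat_lit 1282))
 (.node (nat_lit 0xb2f108f4d) (.leaf (nat_lit 0xb2f1080b2) (nat_lit 774))
 (.leaf (nat_lit 0xb2f108f4d) (nat_lit 1030))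
))) (.node (nat_lit 0xb2f204c41) (.node (nat_lit 0xb2f1dbb8e) (.leaf (nat_lit 0xb2f1db471) (nat_lit 1028))
 (.node (nat_lit 0xb2f2043be) (.leaf (nat_lit 0xb2f1dbb8e) (nat_lit 772))
 (.leaf (nat_lit 0xb2f2043be) (nat_lit 262))
)) (.node (nat_lit 0xb2f2d777d) (.leaf (nat_lit 0xb2f204c41) (nat_lit 518))
 (.node (nat_lit 0xb2f2d7882) (.leaf (nat_lit 0xb2f2d777d) (nat_lit 1028))
 (.leaf (nat_lit 0xb2f2d7882) (nat_lit 772))
))))) (.node (nat_lit 0xb2fa34061) (.node (nat_lit 0xb2f6c736d) (.node (nat_lit 0xb2f5cbf9e) (.node (nat_lit 0xb2f518b5d) (.leaf (nat_lit 0xb2f5184a2) (nat_lit 776))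
 (.node (nat_lit 0xb2f5cb061) (.leaf (nat_lit 0xb2f518b5d) (nat_lit 1032))
 (.leaf (nat_lit 0xb2f5cb061) (nat_lit 1027))
)) (.node (nat_lit 0xb2f6147ae) (.leaf (nat_lit 0xb2f5cbf9e) (nat_lit 771))
 (.node (nat_lit 0xb2f614851) (.leaf (nat_lit 0xb2f6147ae) (nat_lit 774))
 (.leaf (nat_lit 0xb2f614851) (nat_lit 1030))
))) (.node (nat_lit 0xb2f938c92) (.node (nat_lit 0xb2f6c7c92) (.leaf (nat_lit 0xb2f6c736d) (nat_lit 1286))
 (.node (nat_lit 0xb2f93836d) (.leaf (nat_lit 0xb2f6c7c92) (nat_lit 1030))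
 (.leaf (nat_lit 0xb2f93836d) (nat_lit 771))
)) (.node (nat_lit 0xb2f9eb7ae) (.leaf (nat_lit 0xb2f938c92) (nat_lit 1027))
 (.node (nat_lit 0xb2f9eb851) (.leaf (nat_lit 0xb2f9eb7ae) (nat_lit 1027))
 (.leaf (nat_lit 0xb2f9eb851) (nat_lit 771))
)))) (.node (nat_lit 0xb2fdfb3be) (.node (nat_lit 0xb2fae7b5d) (.node (nat_lit 0xb2fa34f9e) (.leaf (nat_lit 0xb2fa34061) (nat_lit 518))
 (.node (nat_lit 0xb2fae74a2) (.leaf (nat_lit 0xb2fa34f9e) (nat_lit 774))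
 (.leaf (nat_lit 0xb2fae74a2) (nat_lit 1032))
)) (.node (nat_lit 0xb2fd2877d) (.leaf (nat_lit 0xb2fae7b5d) (nat_lit 776))
 (.node (nat_lit 0xb2fd28882) (.leaf (nat_lit 0xb2fd2877d) (nat_lit 1030))
 (.leaf (nat_lit 0xb2fd28882) (nat_lit 1286))
))) (.node (nat_lit 0xb2fe24b8e) (.node (nat_lit 0xb2fdfbc41) (.leaf (nat_lit 0xb2fdfb3be) (nat_lit 1030))
 (.node (nat_lit 0xb2fe24471) (.leaf (nat_lit 0xb2fdfbc41) (nat_lit 774))
 (.leaf (nat_lit 0xb2fe24471) (nat_lit 518))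
)) (.node (nat_lit 0xb2fef70b2) (.leaf (nat_lit 0xb2fe24b8e) (nat_lit 774))
 (.node (nat_lit 0xb2fef7f4d) (.leaf (nat_lit 0xb2fef70b2) (nat_lit 1030))
 (.leaf (nat_lit 0xb2fef7f4d) (nat_lit 774))
)))))))) (.node (nat_lit 0xf23137481) (.node (nat_lit 0xc1c917061) (.node (nat_lit 0xc10d28042) (.node (nat_lit 0xc1062b0ae) (.node (nat_lit 0xc102d7042) (.node (nat_lit 0xc101dbcb1) (.node (nat_lit 0xc1013784d) (.leaf (nat_lit 0xc101377b2) (nat_lit 513))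
 (.node (nat_lit 0xc101db34e) (.leaf (nat_lit 0xc1013784d) (nat_lit 257))
 (.leaf (nat_lit 0xc101db34e) (nat_lit 1027))
)) (.node (nat_lit 0xc1023b4be) (.leaf (nat_lit 0xc101dbcb1) (nat_lit 771))
 (.node (nat_lit 0xc1023bb41) (.leaf (nat_lit 0xc1023b4be) (nat_lit 517))
 (.leaf (nat_lit 0xc1023bb41) (nat_lit 261))
))) (.node (nat_lit 0xc10527c5d) (.node (nat_lit 0xc102d7fbd) (.leaf (nat_lit 0xc102d7042) (nat_lit 1029))
 (.node (nat_lit 0xc105273a2) (.leaf (nat_lit 0xc102d7fbd) (nat_lit 773))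
 (.leaf (nat_lit 0xc105273a2) (nat_lit 1027))
)) (.node (nat_lit 0xc105cb75e) (.leaf (nat_lit 0xc10527c5d) (nat_lit 771))
 (.node (nat_lit 0xc105cb8a1) (.leaf (nat_lit 0xc105cb75e) (nat_lit 1028))
 (.leaf (nat_lit 0xc105cb8a1) (nat_lit 772))
)))) (.node (nat_lit 0xc109d40ae) (.node (nat_lit 0xc106c7bad) (.node (nat_lit 0xc1062bf51) (.leaf (nat_lit 0xc1062b0ae) (nat_lit 1029))
 (.node (nat_lit 0xc106c7452) (.leaf (nat_lit 0xc1062bf51) (nat_lit 773))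
 (.leaf (nat_lit 0xc106c7452) (nat_lit 1029))
)) (.node (nat_lit 0xc10938452) (.leaf (nat_lit 0xc106c7bad) (nat_lit 773))
 (.node (nat_lit 0xc10938bad) (.leaf (nat_lit 0xc10938452) (nat_lit 773))
 (.leaf (nat_lit 0xc10938bad) (nat_lit 1029))
))) (.node (nat_lit 0xc10a348a1) (.node (nat_lit 0xc109d4f51) (.leaf (nat_lit 0xc109d40ae) (nat_lit 1033))
 (.node (nat_lit 0xc10a3475e) (.leaf (nat_lit 0xc109d4f51) (nat_lit 1289))
 (.leaf (nat_lit 0xc10a3475e) (nat_lit 260))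
)) (.node (nat_lit 0xc10ad83a2) (.leaf (nat_lit 0xc10a348a1) (nat_lit 516))
 (.node (nat_lit 0xc10ad8c5d) (.leaf (nat_lit 0xc10ad83a2) (nat_lit 771))
 (.leaf (nat_lit 0xc10ad8c5d) (nat_lit 1027))
))))) (.node (nat_lit 0xc1c21838d) (.node (nat_lit 0xc10ec87b2) (.node (nat_lit 0xc10dc4b41) (.node (nat_lit 0xc10d28fbd) (.leaf (nat_lit 0xc10d28042) (nat_lit 773))
 (.node (nat_lit 0xc10dc44be) (.leaf (nat_lit 0xc10d28fbd) (nat_lit 1029))
 (.leaf (nat_lit 0xc10dc44be) (nat_lit 773))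
)) (.node (nat_lit 0xc10e2434e) (.leaf (nat_lit 0xc10dc4b41) (nat_lit 1029))
 (.node (nat_lit 0xc10e24cb1) (.leaf (nat_lit 0xc10e2434e) (nat_lit 259))
 (.leaf (nat_lit 0xc10e24cb1) (nat_lit 515))
))) (.node (nat_lit 0xc1c114f7e) (.node (nat_lit 0xc10ec884d) (.leaf (nat_lit 0xc10ec87b2) (nat_lit 258))
 (.node (nat_lit 0xc1c114081) (.leaf (nat_lit 0xc10ec884d) (nat_lit 514))
 (.leaf (nat_lit 0xc1c114081) (nat_lit 771))
)) (.node (nat_lit 0xc1c1f477d) (.leaf (nat_lit 0xc1c114f7e) (nat_lit 1027))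
 (.node (nat_lit 0xc1c1f4882) (.leaf (nat_lit 0xc1c1f477d) (nat_lit 770))
 (.leaf (nat_lit 0xc1c1f4882) (nat_lit 1026))
)))) (.node (nat_lit 0xc1c5e436d) (.node (nat_lit 0xc1c2f8b8e) (.node (nat_lit 0xc1c218c72) (.leaf (nat_lit 0xc1c21838d) (nat_lit 776))
 (.node (nat_lit 0xc1c2f8471) (.leaf (nat_lit 0xc1c218c72) (nat_lit 1032))
 (.leaf (nat_lit 0xc1c2f8471) (nat_lit 1033))
)) (.node (nat_lit 0xc1c504491) (.leaf (nat_lit 0xc1c2f8b8e) (nat_lit 1289))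
 (.node (nat_lit 0xc1c504b6e) (.leaf (nat_lit 0xc1c504491) (nat_lit 776))
 (.leaf (nat_lit 0xc1c504b6e) (nat_lit 1032))
))) (.node (nat_lit 0xc1c608862) (.node (nat_lit 0xc1c5e4c92) (.leaf (nat_lit 0xc1c5e436d) (nat_lit 770))
 (.node (nat_lit 0xc1c60879d) (.leaf (nat_lit 0xc1c5e4c92) (nat_lit 1026))
 (.leaf (nat_lit 0xc1c60879d) (nat_lit 264))
)) (.node (nat_lit 0xc1c6e8061) (.leaf (nat_lit 0xc1c608862) (nat_lit 520))
 (.node (nat_lit 0xc1c6e8f9e) (.leaf (nat_lit 0xc1c6e8061) (nat_lit 772))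
 (.leaf (nat_lit 0xc1c6e8f9e) (nat_lit 1028))
)))))) (.node (nat_lit 0xc335087be) (.node (nat_lit 0xc1ce0b77d) (.node (nat_lit 0xc1cafb491) (.node (nat_lit 0xc1c9f7862) (.node (nat_lit 0xc1c917f9e) (.leaf (nat_lit 0xc1c917061) (nat_lit 1033))
 (.node (nat_lit 0xc1c9f779d) (.leaf (nat_lit 0xc1c917f9e) (nat_lit 777))
 (.leaf (nat_lit 0xc1c9f779d) (nat_lit 1032))
)) (.node (nat_lit 0xc1ca1b36d) (.leaf (nat_lit 0xc1c9f7862) (nat_lit 776))
 (.node (nat_lit 0xc1ca1bc92) (.leaf (nat_lit 0xc1ca1b36d) (nat_lit 1025))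
 (.leaf (nat_lit 0xc1ca1bc92) (nat_lit 769))
))) (.node (nat_lit 0xc1cd07b8e) (.node (nat_lit 0xc1cafbb6e) (.leaf (nat_lit 0xc1cafb491) (nat_lit 1032))
 (.node (nat_lit 0xc1cd07471) (.leaf (nat_lit 0xc1cafbb6e) (nat_lit 776))
 (.leaf (nat_lit 0xc1cd07471) (nat_lit 1033))
)) (.node (nat_lit 0xc1cde738d) (.leaf (nat_lit 0xc1cd07b8e) (nat_lit 777))
 (.node (nat_lit 0xc1cde7c72) (.leaf (nat_lit 0xc1cde738d) (nat_lit 1029))
 (.leaf (nat_lit 0xc1cde7c72) (nat_lit 773))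
)))) (.node (nat_lit 0xc331d706d) (.node (nat_lit 0xc1ceebf7e) (.node (nat_lit 0xc1ce0b882) (.leaf (nat_lit 0xc1ce0b77d) (nat_lit 1025))
 (.node (nat_lit 0xc1ceeb081) (.leaf (nat_lit 0xc1ce0b882) (nat_lit 769))
 (.leaf (nat_lit 0xc1ceeb081) (nat_lit 1282))
)) (.node (nat_lit 0xc331183ae) (.leaf (nat_lit 0xc1ceebf7e) (nat_lit 1026))
 (.node (nat_lit 0xc33118c51) (.leaf (nat_lit 0xc331183ae) (nat_lit 518))
 (.leaf (nat_lit 0xc33118c51) (nat_lit 774))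
))) (.node (nat_lit 0xc33214f5d) (.node (nat_lit 0xc331d7f92) (.leaf (nat_lit 0xc331d706d) (nat_lit 1027))
 (.node (nat_lit 0xc332140a2) (.leaf (nat_lit 0xc331d7f92) (nat_lit 771))
 (.leaf (nat_lit 0xc332140a2) (nat_lit 777))
)) (.node (nat_lit 0xc332db361) (.leaf (nat_lit 0xc33214f5d) (nat_lit 1033))
 (.node (nat_lit 0xc332dbc9e) (.leaf (nat_lit 0xc332db361) (nat_lit 1032))
 (.leaf (nat_lit 0xc332dbc9e) (nat_lit 776))
))))) (.node (nat_lit 0xc33a3847d) (.node (nat_lit 0xc336cb771) (.node (nat_lit 0xc335c7b82) (.node (nat_lit 0xc33508841) (.leaf (nat_lit 0xc335087be) (nat_lit 769))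
 (.node (nat_lit 0xc335c747d) (.leaf (nat_lit 0xc33508841) (nat_lit 1025))
 (.leaf (nat_lit 0xc335c747d) (nat_lit 1285))
)) (.node (nat_lit 0xc336044b2) (.leaf (nat_lit 0xc335c7b82) (nat_lit 1029))
 (.node (nat_lit 0xc33604b4d) (.leaf (nat_lit 0xc336044b2) (nat_lit 769))
 (.leaf (nat_lit 0xc33604b4d) (nat_lit 1025))
))) (.node (nat_lit 0xc3393488e) (.node (nat_lit 0xc336cb88e) (.leaf (nat_lit 0xc336cb771) (nat_lit 1032))
 (.node (nat_lit 0xc33934771) (.leaf (nat_lit 0xc336cb88e) (nat_lit 776))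
 (.leaf (nat_lit 0xc33934771) (nat_lit 776))
)) (.node (nat_lit 0xc339fb4b2) (.leaf (nat_lit 0xc3393488e) (nat_lit 1032))
 (.node (nat_lit 0xc339fbb4d) (.leaf (nat_lit 0xc339fb4b2) (nat_lit 1026))
 (.leaf (nat_lit 0xc339fbb4d) (nat_lit 770))
)))) (.node (nat_lit 0xc33deb0a2) (.node (nat_lit 0xc33af7841) (.node (nat_lit 0xc33a38b82) (.leaf (nat_lit 0xc33a3847d) (nat_lit 776))
 (.node (nat_lit 0xc33af77be) (.leaf (nat_lit 0xc33a38b82) (nat_lit 1032))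
 (.leaf (nat_lit 0xc33af77be) (nat_lit 1026))
)) (.node (nat_lit 0xc33d24361) (.leaf (nat_lit 0xc33af7841) (nat_lit 770))
 (.node (nat_lit 0xc33d24c9e) (.leaf (nat_lit 0xc33d24361) (nat_lit 776))
 (.leaf (nat_lit 0xc33d24c9e) (nat_lit 1032))
))) (.node (nat_lit 0xc33e28f92) (.node (nat_lit 0xc33debf5d) (.leaf (nat_lit 0xc33deb0a2) (nat_lit 1033))
 (.node (nat_lit 0xc33e2806d) (.leaf (nat_lit 0xc33debf5d) (nat_lit 777))
 (.leaf (nat_lit 0xc33e2806d) (nat_lit 771))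
)) (.node (nat_lit 0xc33ee73ae) (.leaf (nat_lit 0xc33e28f92) (nat_lit 1027))
 (.node (nat_lit 0xc33ee7c51) (.leaf (nat_lit 0xc33ee73ae) (nat_lit 1033))
 (.leaf (nat_lit 0xc33ee7c51) (nat_lit 777))
))))))) (.node (nat_lit 0xf2f917352) (.node (nat_lit 0xf23d1b04e) (.node (nat_lit 0xf2362b39d) (.node (nat_lit 0xf232e404e) (.node (nat_lit 0xf231e8cbd) (.node (nat_lit 0xf23137b7e) (.leaf (nat_lit 0xf23137481) (nat_lit 1032))
 (.node (nat_lit 0xf231e8342) (.leaf (nat_lit 0xf23137b7e) (nat_lit 1288))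
 (.leaf (nat_lit 0xf231e8342) (nat_lit 1288))
)) (.node (nat_lit 0xf2323b78d) (.leaf (nat_lit 0xf231e8cbd) (nat_lit 1032))
 (.node (nat_lit 0xf2323b872) (.leaf (nat_lit 0xf2323b78d) (nat_lit 777))
 (.leaf (nat_lit 0xf2323b872) (nat_lit 1033))
))) (.node (nat_lit 0xf23527f6e) (.node (nat_lit 0xf232e4fb1) (.leaf (nat_lit 0xf232e404e) (nat_lit 1288))
 (.node (nat_lit 0xf23527091) (.leaf (nat_lit 0xf232e4fb1) (nat_lit 1032))
 (.leaf (nat_lit 0xf23527091) (nat_lit 775))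
)) (.node (nat_lit 0xf235f8752) (.leaf (nat_lit 0xf23527f6e) (nat_lit 1031))
 (.node (nat_lit 0xf235f88ad) (.leaf (nat_lit 0xf235f8752) (nat_lit 1288))
 (.leaf (nat_lit 0xf235f88ad) (nat_lit 1032))
)))) (.node (nat_lit 0xf239d439d) (.node (nat_lit 0xf236f4ba1) (.node (nat_lit 0xf2362bc62) (.leaf (nat_lit 0xf2362b39d) (nat_lit 777))
 (.node (nat_lit 0xf236f445e) (.leaf (nat_lit 0xf2362bc62) (nat_lit 1033))
 (.leaf (nat_lit 0xf236f445e) (nat_lit 1288))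
)) (.node (nat_lit 0xf2390b45e) (.leaf (nat_lit 0xf236f4ba1) (nat_lit 1032))
 (.node (nat_lit 0xf2390bba1) (.leaf (nat_lit 0xf2390b45e) (nat_lit 1031))
 (.leaf (nat_lit 0xf2390bba1) (nat_lit 1287))
))) (.node (nat_lit 0xf23a078ad) (.node (nat_lit 0xf239d4c62) (.leaf (nat_lit 0xf239d439d) (nat_lit 1033))
 (.node (nat_lit 0xf23a07752) (.leaf (nat_lit 0xf239d4c62) (nat_lit 777))
 (.leaf (nat_lit 0xf23a07752) (nat_lit 1031))
)) (.node (nat_lit 0xf23ad8091) (.leaf (nat_lit 0xf23a078ad) (nat_lit 1287))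
 (.node (nat_lit 0xf23ad8f6e) (.leaf (nat_lit 0xf23ad8091) (nat_lit 1031))
 (.leaf (nat_lit 0xf23ad8f6e) (nat_lit 775))
))))) (.node (nat_lit 0xf2f22b381) (.node (nat_lit 0xf23ec8481) (.node (nat_lit 0xf23dc4872) (.node (nat_lit 0xf23d1bfb1) (.leaf (nat_lit 0xf23d1b04e) (nat_lit 1031))
 (.node (nat_lit 0xf23dc478d) (.leaf (nat_lit 0xf23d1bfb1) (nat_lit 1287))
 (.leaf (nat_lit 0xf23dc478d) (nat_lit 1033))
)) (.node (nat_lit 0xf23e17342) (.leaf (nat_lit 0xf23dc4872) (nat_lit 777))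
 (.node (nat_lit 0xf23e17cbd) (.leaf (nat_lit 0xf23e17342) (nat_lit 1028))
 (.leaf (nat_lit 0xf23e17cbd) (nat_lit 1284))
))) (.node (nat_lit 0xf2f127f72) (.node (nat_lit 0xf23ec8b7e) (.leaf (nat_lit 0xf23ec8481) (nat_lit 1288))
 (.node (nat_lit 0xf2f12708d) (.leaf (nat_lit 0xf23ec8b7e) (nat_lit 1032))
 (.leaf (nat_lit 0xf2f12708d) (nat_lit 774))
)) (.node (nat_lit 0xf2f1f444e) (.leaf (nat_lit 0xf2f127f72) (nat_lit 1030))
 (.node (nat_lit 0xf2f1f4bb1) (.leaf (nat_lit 0xf2f1f444e) (nat_lit 1287))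
 (.leaf (nat_lit 0xf2f1f4bb1) (nat_lit 1031))
)))) (.node (nat_lit 0xf2f5e405e) (.node (nat_lit 0xf2f2f88bd) (.node (nat_lit 0xf2f22bc7e) (.leaf (nat_lit 0xf2f22b381) (nat_lit 519))
 (.node (nat_lit 0xf2f2f8742) (.leaf (nat_lit 0xf2f22bc7e) (nat_lit 775))
 (.leaf (nat_lit 0xf2f2f8742) (nat_lit 1286))
)) (.node (nat_lit 0xf2f53749d) (.leaf (nat_lit 0xf2f2f88bd) (nat_lit 1030))
 (.node (nat_lit 0xf2f537b62) (.leaf (nat_lit 0xf2f53749d) (nat_lit 774))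
 (.leaf (nat_lit 0xf2f537b62) (nat_lit 1030))
))) (.node (nat_lit 0xf2f63b86e) (.node (nat_lit 0xf2f5e4fa1) (.leaf (nat_lit 0xf2f5e405e) (nat_lit 1284))
 (.node (nat_lit 0xf2f63b791) (.leaf (nat_lit 0xf2f5e4fa1) (nat_lit 1028))
 (.leaf (nat_lit 0xf2f63b791) (nat_lit 1025))
)) (.node (nat_lit 0xf2f6e8352) (.leaf (nat_lit 0xf2f63b86e) (nat_lit 1281))
 (.node (nat_lit 0xf2f6e8cad) (.leaf (nat_lit 0xf2f6e8352) (nat_lit 1028))
 (.leaf (nat_lit 0xf2f6e8cad) (nat_lit 772))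
)))))) (.node (nat_lit 0xf3353b781) (.node (nat_lit 0xf2fe0b44e) (.node (nat_lit 0xf2fac849d) (.node (nat_lit 0xf2f9c486e) (.node (nat_lit 0xf2f917cad) (.leaf (nat_lit 0xf2f917352) (nat_lit 1030))
 (.node (nat_lit 0xf2f9c4791) (.leaf (nat_lit 0xf2f917cad) (nat_lit 1286))
 (.leaf (nat_lit 0xf2f9c4791) (nat_lit 1282))
)) (.node (nat_lit 0xf2fa1b05e) (.leaf (nat_lit 0xf2f9c486e) (nat_lit 1026))
 (.node (nat_lit 0xf2fa1bfa1) (.leaf (nat_lit 0xf2fa1b05e) (nat_lit 775))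
 (.leaf (nat_lit 0xf2fa1bfa1) (nat_lit 1031))
))) (.node (nat_lit 0xf2fd078bd) (.node (nat_lit 0xf2fac8b62) (.leaf (nat_lit 0xf2fac849d) (nat_lit 1030))
 (.node (nat_lit 0xf2fd07742) (.leaf (nat_lit 0xf2fac8b62) (nat_lit 774))
 (.leaf (nat_lit 0xf2fd07742) (nat_lit 771))
)) (.node (nat_lit 0xf2fdd4381) (.leaf (nat_lit 0xf2fd078bd) (nat_lit 1027))
 (.node (nat_lit 0xf2fdd4c7e) (.leaf (nat_lit 0xf2fdd4381) (nat_lit 1287))
 (.leaf (nat_lit 0xf2fdd4c7e) (nat_lit 1031))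
)))) (.node (nat_lit 0xf331e4052) (.node (nat_lit 0xf2fed8f72) (.node (nat_lit 0xf2fe0bbb1) (.leaf (nat_lit 0xf2fe0b44e) (nat_lit 775))
 (.node (nat_lit 0xf2fed808d) (.leaf (nat_lit 0xf2fe0bbb1) (nat_lit 1031))
 (.leaf (nat_lit 0xf2fed808d) (nat_lit 1030))
)) (.node (nat_lit 0xf3312b391) (.leaf (nat_lit 0xf2fed8f72) (nat_lit 774))
 (.node (nat_lit 0xf3312bc6e) (.leaf (nat_lit 0xf3312b391) (nat_lit 775))
 (.leaf (nat_lit 0xf3312bc6e) (nat_lit 1031))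
))) (.node (nat_lit 0xf33227f62) (.node (nat_lit 0xf331e4fad) (.leaf (nat_lit 0xf331e4052) (nat_lit 1289))
 (.node (nat_lit 0xf3322709d) (.leaf (nat_lit 0xf331e4fad) (nat_lit 1033))
 (.leaf (nat_lit 0xf3322709d) (nat_lit 1031))
)) (.node (nat_lit 0xf332e835e) (.leaf (nat_lit 0xf33227f62) (nat_lit 1287))
 (.node (nat_lit 0xf332e8ca1) (.leaf (nat_lit 0xf332e835e) (nat_lit 1283))
 (.leaf (nat_lit 0xf332e8ca1) (nat_lit 1027))
))))) (.node (nat_lit 0xf33a0b442) (.node (nat_lit 0xf336f874e) (.node (nat_lit 0xf335f4bbd) (.node (nat_lit 0xf3353b87e) (.leaf (nat_lit 0xf3353b781) (nat_lit 1029))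
 (.node (nat_lit 0xf335f4442) (.leaf (nat_lit 0xf3353b87e) (nat_lit 1285))
 (.leaf (nat_lit 0xf335f4442) (nat_lit 1289))
)) (.node (nat_lit 0xf3363748d) (.leaf (nat_lit 0xf335f4bbd) (nat_lit 1033))
 (.node (nat_lit 0xf33637b72) (.leaf (nat_lit 0xf3363748d) (nat_lit 1026))
 (.leaf (nat_lit 0xf33637b72) (nat_lit 1282))
))) (.node (nat_lit 0xf339078b1) (.node (nat_lit 0xf336f88b1) (.leaf (nat_lit 0xf336f874e) (nat_lit 1284))
 (.node (nat_lit 0xf3390774e) (.leaf (nat_lit 0xf336f88b1) (nat_lit 1028))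
 (.leaf (nat_lit 0xf3390774e) (nat_lit 1031))
)) (.node (nat_lit 0xf339c848d) (.leaf (nat_lit 0xf339078b1) (nat_lit 1287))
 (.node (nat_lit 0xf339c8b72) (.leaf (nat_lit 0xf339c848d) (nat_lit 1032))
 (.leaf (nat_lit 0xf339c8b72) (nat_lit 776))
)))) (.node (nat_lit 0xf33dd809d) (.node (nat_lit 0xf33ac487e) (.node (nat_lit 0xf33a0bbbd) (.leaf (nat_lit 0xf33a0b442) (nat_lit 1033))
 (.node (nat_lit 0xf33ac4781) (.leaf (nat_lit 0xf33a0bbbd) (nat_lit 1289))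
 (.leaf (nat_lit 0xf33ac4781) (nat_lit 1288))
)) (.node (nat_lit 0xf33d1735e) (.leaf (nat_lit 0xf33ac487e) (nat_lit 1032))
 (.node (nat_lit 0xf33d17ca1) (.leaf (nat_lit 0xf33d1735e) (nat_lit 1031))
 (.leaf (nat_lit 0xf33d17ca1) (nat_lit 1287))
))) (.node (nat_lit 0xf33e1bfad) (.node (nat_lit 0xf33dd8f62) (.leaf (nat_lit 0xf33dd809d) (nat_lit 1287))
 (.node (nat_lit 0xf33e1b052) (.leaf (nat_lit 0xf33dd8f62) (nat_lit 1031))
 (.leaf (nat_lit 0xf33e1b052) (nat_lit 1033))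
)) (.node (nat_lit 0xf33ed4391) (.leaf (nat_lit 0xf33e1bfad) (nat_lit 1289))
 (.node (nat_lit 0xf33ed4c6e) (.leaf (nat_lit 0xf33ed4391) (nat_lit 1282))
 (.leaf (nat_lit 0xf33ed4c6e) (nat_lit 1026))
))))))))))

theorem CC_ok : genOK B6.A [(nat_lit 0x810204f7e), (nat_lit 0xc1013784d), (nat_lit 0xc10ec87b2), (nat_lit 0xc10e2434e), (nat_lit 0xc10a3475e), (nat_lit 0xc1023bb41), (nat_lit 0xb2f2043be), (nat_lit 0x3d02140be), (nat_lit 0xc1c60879d), (nat_lit 0xb0c118491)] CC_t (nat_lit 768) = true := by decide +kernel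

noncomputable def SS_t : ST :=
(.node (nat_lit 0x81010838d) (.node (nat_lit 0x4ef11848d) (.node (nat_lit 0x3d01183b2) (.node (nat_lit 0xef90776d) (.node (nat_lit 0xef5270a2) (.node (nat_lit 0xef23b7be) (.node (nat_lit 0xef1e4071) (.node (nat_lit 0xef137b4d) (.leaf (nat_lit 0xef1374b2) (nat_lit 518))
 (.leaf (nat_lit 0xef137b4d) (nat_lit 774))
) (.node (nat_lit 0xef1e4f8e) (.leaf (nat_lit 0xef1e4071) (nat_lit 1283))
 (.leaf (nat_lit 0xef1e4f8e) (nat_lit 1027))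
)) (.node (nat_lit 0xef2e837d) (.node (nat_lit 0xef23b841) (.leaf (nat_lit 0xef23b7be) (nat_lit 518))
 (.leaf (nat_lit 0xef23b841) (nat_lit 774))
) (.node (nat_lit 0xef2e8c82) (.leaf (nat_lit 0xef2e837d) (nat_lit 771))
 (.leaf (nat_lit 0xef2e8c82) (nat_lit 515))
))) (.node (nat_lit 0xef62b3ae) (.node (nat_lit 0xef5f4461) (.node (nat_lit 0xef527f5d) (.leaf (nat_lit 0xef5270a2) (nat_lit 772))
 (.leaf (nat_lit 0xef527f5d) (nat_lit 1028))
) (.node (nat_lit 0xef5f4b9e) (.leaf (nat_lit 0xef5f4461) (nat_lit 1284))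
 (.leaf (nat_lit 0xef5f4b9e) (nat_lit 1028))
)) (.node (nat_lit 0xef6f876d) (.node (nat_lit 0xef62bc51) (.leaf (nat_lit 0xef62b3ae) (nat_lit 1030))
 (.leaf (nat_lit 0xef62bc51) (nat_lit 1286))
) (.node (nat_lit 0xef6f8892) (.leaf (nat_lit 0xef6f876d) (nat_lit 1030))
 (.leaf (nat_lit 0xef6f8892) (nat_lit 774))
)))) (.node (nat_lit 0xefd1737d) (.node (nat_lit 0xefa0b461) (.node (nat_lit 0xef9d43ae) (.node (nat_lit 0xef907892) (.leaf (nat_lit 0xef90776d) (nat_lit 516))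
 (.leaf (nat_lit 0xef907892) (nat_lit 772))
) (.node (nat_lit 0xef9d4c51) (.leaf (nat_lit 0xef9d43ae) (nat_lit 1283))
 (.leaf (nat_lit 0xef9d4c51) (nat_lit 1027))
)) (.node (nat_lit 0xefad80a2) (.node (nat_lit 0xefa0bb9e) (.leaf (nat_lit 0xefa0b461) (nat_lit 774))
 (.leaf (nat_lit 0xefa0bb9e) (nat_lit 1030))
) (.node (nat_lit 0xefad8f5d) (.leaf (nat_lit 0xefad80a2) (nat_lit 1027))
 (.leaf (nat_lit 0xefad8f5d) (nat_lit 771))
))) (.node (nat_lit 0xefe1b071) (.node (nat_lit 0xefdc47be) (.node (nat_lit 0xefd17c82) (.leaf (nat_lit 0xefd1737d) (nat_lit 774))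
 (.leaf (nat_lit 0xefd17c82) (nat_lit 1030))
) (.node (nat_lit 0xefdc4841) (.leaf (nat_lit 0xefdc47be) (nat_lit 1286))
 (.leaf (nat_lit 0xefdc4841) (nat_lit 1030))
)) (.node (nat_lit 0xefec84b2) (.node (nat_lit 0xefe1bf8e) (.leaf (nat_lit 0xefe1b071) (nat_lit 774))
 (.leaf (nat_lit 0xefe1bf8e) (nat_lit 1030))
) (.node (nat_lit 0xefec8b4d) (.leaf (nat_lit 0xefec84b2) (nat_lit 774))
 (.leaf (nat_lit 0xefec8b4d) (nat_lit 518))
))))) (.node (nat_lit 0x3d0917052) (.node (nat_lit 0x3d05087a2) (.node (nat_lit 0x3d02140be) (.node (nat_lit 0x3d01f474e) (.node (nat_lit 0x3d0118c4d) (.leaf (nat_lit 0x3d01183b2) (nat_lit 775))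
 (.leaf (nat_lit 0x3d0118c4d) (nat_lit 1031))
) (.node (nat_lit 0x3d01f48b1) (.leaf (nat_lit 0x3d01f474e) (nat_lit 771))
 (.leaf (nat_lit 0x3d01f48b1) (nat_lit 1027))
)) (.node (nat_lit 0x3d02f8442) (.node (nat_lit 0x3d0214f41) (.leaf (nat_lit 0x3d02140be) (nat_lit 263))
 (.leaf (nat_lit 0x3d0214f41) (nat_lit 519))
) (.node (nat_lit 0x3d02f8bbd) (.leaf (nat_lit 0x3d02f8442) (nat_lit 771))
 (.leaf (nat_lit 0x3d02f8bbd) (nat_lit 1027))
))) (.node (nat_lit 0x3d06044ae) (.node (nat_lit 0x3d05e435e) (.node (nat_lit 0x3d050885d) (.leaf (nat_lit 0x3d05087a2) (nat_lit 770))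
 (.leaf (nat_lit 0x3d050885d) (nat_lit 1026))
) (.node (nat_lit 0x3d05e4ca1) (.leaf (nat_lit 0x3d05e435e) (nat_lit 772))
 (.leaf (nat_lit 0x3d05e4ca1) (nat_lit 1028))
)) (.node (nat_lit 0x3d06e8052) (.node (nat_lit 0x3d0604b51) (.leaf (nat_lit 0x3d06044ae) (nat_lit 770))
 (.leaf (nat_lit 0x3d0604b51) (nat_lit 1026))
) (.node (nat_lit 0x3d06e8fad) (.leaf (nat_lit 0x3d06e8052) (nat_lit 772))
 (.leaf (nat_lit 0x3d06e8fad) (nat_lit 1028))
)))) (.node (nat_lit 0x3d0d07442) (.node (nat_lit 0x3d0a1b35e) (.node (nat_lit 0x3d09fb4ae) (.node (nat_lit 0x3d0917fad) (.leaf (nat_lit 0x3d0917052) (nat_lit 1031))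
 (.leaf (nat_lit 0x3d0917fad) (nat_lit 775))
) (.node (nat_lit 0x3d09fbb51) (.leaf (nat_lit 0x3d09fb4ae) (nat_lit 1025))
 (.leaf (nat_lit 0x3d09fbb51) (nat_lit 769))
)) (.node (nat_lit 0x3d0af77a2) (.node (nat_lit 0x3d0a1bca1) (.leaf (nat_lit 0x3d0a1b35e) (nat_lit 1031))
 (.leaf (nat_lit 0x3d0a1bca1) (nat_lit 775))
) (.node (nat_lit 0x3d0af785d) (.leaf (nat_lit 0x3d0af77a2) (nat_lit 1025))
 (.leaf (nat_lit 0x3d0af785d) (nat_lit 769))
))) (.node (nat_lit 0x3d0e0b74e) (.node (nat_lit 0x3d0deb0be) (.node (nat_lit 0x3d0d07bbd) (.leaf (nat_lit 0x3d0d07442) (nat_lit 1031))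
 (.leaf (nat_lit 0x3d0d07bbd) (nat_lit 775))
) (.node (nat_lit 0x3d0debf41) (.leaf (nat_lit 0x3d0deb0be) (nat_lit 1031))
 (.leaf (nat_lit 0x3d0debf41) (nat_lit 775))
)) (.node (nat_lit 0x3d0ee73b2) (.node (nat_lit 0x3d0e0b8b1) (.leaf (nat_lit 0x3d0e0b74e) (nat_lit 1031))
 (.leaf (nat_lit 0x3d0e0b8b1) (nat_lit 775))
) (.node (nat_lit 0x3d0ee7c4d) (.leaf (nat_lit 0x3d0ee73b2) (nat_lit 1031))
 (.leaf (nat_lit 0x3d0ee7c4d) (nat_lit 775))
)))))) (.node (nat_lit 0x7d012778d) (.node (nat_lit 0x4ef928752) (.node (nat_lit 0x4ef50809d) (.node (nat_lit 0x4ef214781) (.node (nat_lit 0x4ef1cb04e) (.node (nat_lit 0x4ef118b72) (.leaf (nat_lit 0x4ef11848d) (nat_lit 775))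
 (.leaf (nat_lit 0x4ef118b72) (nat_lit 1031))
) (.node (nat_lit 0x4ef1cbfb1) (.leaf (nat_lit 0x4ef1cb04e) (nat_lit 1030))
 (.leaf (nat_lit 0x4ef1cbfb1) (nat_lit 774))
)) (.node (nat_lit 0x4ef2c7342) (.node (nat_lit 0x4ef21487e) (.leaf (nat_lit 0x4ef214781) (nat_lit 518))
 (.leaf (nat_lit 0x4ef21487e) (nat_lit 774))
) (.node (nat_lit 0x4ef2c7cbd) (.leaf (nat_lit 0x4ef2c7342) (nat_lit 1031))
 (.leaf (nat_lit 0x4ef2c7cbd) (nat_lit 775))
))) (.node (nat_lit 0x4ef604391) (.node (nat_lit 0x4ef5db45e) (.node (nat_lit 0x4ef508f62) (.leaf (nat_lit 0x4ef50809d) (nat_lit 770))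
 (.leaf (nat_lit 0x4ef508f62) (nat_lit 1026))
) (.node (nat_lit 0x4ef5dbba1) (.leaf (nat_lit 0x4ef5db45e) (nat_lit 1030))
 (.leaf (nat_lit 0x4ef5dbba1) (nat_lit 774))
)) (.node (nat_lit 0x4ef6d7752) (.node (nat_lit 0x4ef604c6e) (.leaf (nat_lit 0x4ef604391) (nat_lit 1030))
 (.leaf (nat_lit 0x4ef604c6e) (nat_lit 1286))
) (.node (nat_lit 0x4ef6d78ad) (.leaf (nat_lit 0x4ef6d7752) (nat_lit 1027))
 (.leaf (nat_lit 0x4ef6d78ad) (nat_lit 771))
)))) (.node (nat_lit 0x4efd38342) (.node (nat_lit 0x4efa2445e) (.node (nat_lit 0x4ef9fb391) (.node (nat_lit 0x4ef9288ad) (.leaf (nat_lit 0x4ef928752) (nat_lit 775))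
 (.leaf (nat_lit 0x4ef9288ad) (nat_lit 1031))
) (.node (nat_lit 0x4ef9fbc6e) (.leaf (nat_lit 0x4ef9fb391) (nat_lit 1286))
 (.leaf (nat_lit 0x4ef9fbc6e) (nat_lit 1030))
)) (.node (nat_lit 0x4efaf709d) (.node (nat_lit 0x4efa24ba1) (.leaf (nat_lit 0x4efa2445e) (nat_lit 774))
 (.leaf (nat_lit 0x4efa24ba1) (nat_lit 1030))
) (.node (nat_lit 0x4efaf7f62) (.leaf (nat_lit 0x4efaf709d) (nat_lit 1025))
 (.leaf (nat_lit 0x4efaf7f62) (nat_lit 769))
))) (.node (nat_lit 0x4efe3404e) (.node (nat_lit 0x4efdeb781) (.node (nat_lit 0x4efd38cbd) (.leaf (nat_lit 0x4efd38342) (nat_lit 772))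
 (.leaf (nat_lit 0x4efd38cbd) (nat_lit 1028))
) (.node (nat_lit 0x4efdeb87e) (.leaf (nat_lit 0x4efdeb781) (nat_lit 1286))
 (.leaf (nat_lit 0x4efdeb87e) (nat_lit 1030))
)) (.node (nat_lit 0x4efee748d) (.node (nat_lit 0x4efe34fb1) (.leaf (nat_lit 0x4efe3404e) (nat_lit 774))
 (.leaf (nat_lit 0x4efe34fb1) (nat_lit 1030))
) (.node (nat_lit 0x4efee7b72) (.leaf (nat_lit 0x4efee748d) (nat_lit 1031))
 (.leaf (nat_lit 0x4efee7b72) (nat_lit 775))
))))) (.node (nat_lit 0x7d092846d) (.node (nat_lit 0x7d053739d) (.node (nat_lit 0x7d022b481) (.node (nat_lit 0x7d01cb371) (.node (nat_lit 0x7d0127872) (.leaf (nat_lit 0x7d012778d) (nat_lit 775))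
 (.leaf (nat_lit 0x7d0127872) (nat_lit 519))
) (.node (nat_lit 0x7d01cbc8e) (.leaf (nat_lit 0x7d01cb371) (nat_lit 772))
 (.leaf (nat_lit 0x7d01cbc8e) (nat_lit 516))
)) (.node (nat_lit 0x7d02c707d) (.node (nat_lit 0x7d022bb7e) (.leaf (nat_lit 0x7d022b481) (nat_lit 775))
 (.leaf (nat_lit 0x7d022bb7e) (nat_lit 519))
) (.node (nat_lit 0x7d02c7f82) (.leaf (nat_lit 0x7d02c707d) (nat_lit 1284))
 (.leaf (nat_lit 0x7d02c7f82) (nat_lit 1028))
))) (.node (nat_lit 0x7d063b091) (.node (nat_lit 0x7d05db761) (.node (nat_lit 0x7d0537c62) (.leaf (nat_lit 0x7d053739d) (nat_lit 769))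
 (.leaf (nat_lit 0x7d0537c62) (nat_lit 513))
) (.node (nat_lit 0x7d05db89e) (.leaf (nat_lit 0x7d05db761) (nat_lit 771))
 (.leaf (nat_lit 0x7d05db89e) (nat_lit 515))
)) (.node (nat_lit 0x7d06d746d) (.node (nat_lit 0x7d063bf6e) (.leaf (nat_lit 0x7d063b091) (nat_lit 1281))
 (.leaf (nat_lit 0x7d063bf6e) (nat_lit 1025))
) (.node (nat_lit 0x7d06d7b92) (.leaf (nat_lit 0x7d06d746d) (nat_lit 1283))
 (.leaf (nat_lit 0x7d06d7b92) (nat_lit 1027))
)))) (.node (nat_lit 0x7d0d3807d) (.node (nat_lit 0x7d0a24761) (.node (nat_lit 0x7d09c4091) (.node (nat_lit 0x7d0928b92) (.leaf (nat_lit 0x7d092846d) (nat_lit 1031))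
 (.leaf (nat_lit 0x7d0928b92) (nat_lit 1287))
) (.node (nat_lit 0x7d09c4f6e) (.leaf (nat_lit 0x7d09c4091) (nat_lit 1026))
 (.leaf (nat_lit 0x7d09c4f6e) (nat_lit 1282))
)) (.node (nat_lit 0x7d0ac839d) (.node (nat_lit 0x7d0a2489e) (.leaf (nat_lit 0x7d0a24761) (nat_lit 519))
 (.leaf (nat_lit 0x7d0a2489e) (nat_lit 775))
) (.node (nat_lit 0x7d0ac8c62) (.leaf (nat_lit 0x7d0ac839d) (nat_lit 514))
 (.leaf (nat_lit 0x7d0ac8c62) (nat_lit 770))
))) (.node (nat_lit 0x7d0e34371) (.node (nat_lit 0x7d0dd4481) (.node (nat_lit 0x7d0d38f82) (.leaf (nat_lit 0x7d0d3807d) (nat_lit 1031))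
 (.leaf (nat_lit 0x7d0d38f82) (nat_lit 1287))
) (.node (nat_lit 0x7d0dd4b7e) (.leaf (nat_lit 0x7d0dd4481) (nat_lit 1031))
 (.leaf (nat_lit 0x7d0dd4b7e) (nat_lit 1287))
)) (.node (nat_lit 0x7d0ed878d) (.node (nat_lit 0x7d0e34c8e) (.leaf (nat_lit 0x7d0e34371) (nat_lit 519))
 (.leaf (nat_lit 0x7d0e34c8e) (nat_lit 775))
) (.node (nat_lit 0x7d0ed8872) (.leaf (nat_lit 0x7d0ed878d) (nat_lit 519))
 (.leaf (nat_lit 0x7d0ed8872) (nat_lit 775))
))))))) (.node (nat_lit 0xc101377b2) (.node (nat_lit 0xb2f1080b2) (.node (nat_lit 0x81090706d) (.node (nat_lit 0x81051879d) (.node (nat_lit 0x810204081) (.node (nat_lit 0x8101e4771) (.node (nat_lit 0x810108c72) (.leaf (nat_lit 0x81010838d) (nat_lit 517))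
 (.leaf (nat_lit 0x810108c72) (nat_lit 773))
) (.node (nat_lit 0x8101e488e) (.leaf (nat_lit 0x8101e4771) (nat_lit 1029))
 (.leaf (nat_lit 0x8101e488e) (nat_lit 1285))
)) (.node (nat_lit 0x8102e847d) (.node (nat_lit 0x810204f7e) (.leaf (nat_lit 0x810204081) (nat_lit 0))
 (.leaf (nat_lit 0x810204f7e) (nat_lit 256))
) (.node (nat_lit 0x8102e8b82) (.leaf (nat_lit 0x8102e847d) (nat_lit 516))
 (.leaf (nat_lit 0x8102e8b82) (nat_lit 772))
))) (.node (nat_lit 0x810614491) (.node (nat_lit 0x8105f4361) (.node (nat_lit 0x810518862) (.leaf (nat_lit 0x81051879d) (nat_lit 1029))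
 (.leaf (nat_lit 0x810518862) (nat_lit 1285))
) (.node (nat_lit 0x8105f4c9e) (.leaf (nat_lit 0x8105f4361) (nat_lit 1029))
 (.leaf (nat_lit 0x8105f4c9e) (nat_lit 1285))
)) (.node (nat_lit 0x8106f806d) (.node (nat_lit 0x810614b6e) (.leaf (nat_lit 0x810614491) (nat_lit 515))
 (.leaf (nat_lit 0x810614b6e) (nat_lit 771))
) (.node (nat_lit 0x8106f8f92) (.leaf (nat_lit 0x8106f806d) (nat_lit 515))
 (.leaf (nat_lit 0x8106f8f92) (nat_lit 771))
)))) (.node (nat_lit 0x810d1747d) (.node (nat_lit 0x810a0b361) (.node (nat_lit 0x8109eb491) (.node (nat_lit 0x810907f92) (.leaf (nat_lit 0x81090706d) (nat_lit 771))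
 (.leaf (nat_lit 0x810907f92) (nat_lit 515))
) (.node (nat_lit 0x8109ebb6e) (.leaf (nat_lit 0x8109eb491) (nat_lit 1283))
 (.leaf (nat_lit 0x8109ebb6e) (nat_lit 1027))
)) (.node (nat_lit 0x810ae779d) (.node (nat_lit 0x810a0bc9e) (.leaf (nat_lit 0x810a0b361) (nat_lit 773))
 (.leaf (nat_lit 0x810a0bc9e) (nat_lit 517))
) (.node (nat_lit 0x810ae7862) (.leaf (nat_lit 0x810ae779d) (nat_lit 1285))
 (.leaf (nat_lit 0x810ae7862) (nat_lit 1029))
))) (.node (nat_lit 0x810e1b771) (.node (nat_lit 0x810dfb081) (.node (nat_lit 0x810d17b82) (.leaf (nat_lit 0x810d1747d) (nat_lit 772))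
 (.leaf (nat_lit 0x810d17b82) (nat_lit 516))
) (.node (nat_lit 0x810dfbf7e) (.leaf (nat_lit 0x810dfb081) (nat_lit 769))
 (.leaf (nat_lit 0x810dfbf7e) (nat_lit 513))
)) (.node (nat_lit 0x810ef738d) (.node (nat_lit 0x810e1b88e) (.leaf (nat_lit 0x810e1b771) (nat_lit 773))
 (.leaf (nat_lit 0x810e1b88e) (nat_lit 517))
) (.node (nat_lit 0x810ef7c72) (.leaf (nat_lit 0x810ef738d) (nat_lit 773))
 (.leaf (nat_lit 0x810ef7c72) (nat_lit 517))
))))) (.node (nat_lit 0xb2f93836d) (.node (nat_lit 0xb2f5184a2) (.node (nat_lit 0xb2f2043be) (.node (nat_lit 0xb2f1db471) (.node (nat_lit 0xb2f108f4d) (.leaf (nat_lit 0xb2f1080b2) (nat_lit 774))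
 (.leaf (nat_lit 0xb2f108f4d) (nat_lit 1030))
) (.node (nat_lit 0xb2f1dbb8e) (.leaf (nat_lit 0xb2f1db471) (nat_lit 1028))
 (.leaf (nat_lit 0xb2f1dbb8e) (nat_lit 772))
)) (.node (nat_lit 0xb2f2d777d) (.node (nat_lit 0xb2f204c41) (.leaf (nat_lit 0xb2f2043be) (nat_lit 262))
 (.leaf (nat_lit 0xb2f204c41) (nat_lit 518))
) (.node (nat_lit 0xb2f2d7882) (.leaf (nat_lit 0xb2f2d777d) (nat_lit 1028))
 (.leaf (nat_lit 0xb2f2d7882) (nat_lit 772))
))) (.node (nat_lit 0xb2f6147ae) (.node (nat_lit 0xb2f5cb061) (.node (nat_lit 0xb2f518b5d) (.leaf (nat_lit 0xb2f5184a2) (nat_lit 1027))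
 (.leaf (nat_lit 0xb2f518b5d) (nat_lit 1283))
) (.node (nat_lit 0xb2f5cbf9e) (.leaf (nat_lit 0xb2f5cb061) (nat_lit 1027))
 (.leaf (nat_lit 0xb2f5cbf9e) (nat_lit 771))
)) (.node (nat_lit 0xb2f6c736d) (.node (nat_lit 0xb2f614851) (.leaf (nat_lit 0xb2f6147ae) (nat_lit 774))
 (.leaf (nat_lit 0xb2f614851) (nat_lit 1030))
) (.node (nat_lit 0xb2f6c7c92) (.leaf (nat_lit 0xb2f6c736d) (nat_lit 1286))
 (.leaf (nat_lit 0xb2f6c7c92) (nat_lit 1030))
)))) (.node (nat_lit 0xb2fd2877d) (.node (nat_lit 0xb2fa34061) (.node (nat_lit 0xb2f9eb7ae) (.node (nat_lit 0xb2f938c92) (.leaf (nat_lit 0xb2f93836d) (nat_lit 771))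
 (.leaf (nat_lit 0xb2f938c92) (nat_lit 1027))
) (.node (nat_lit 0xb2f9eb851) (.leaf (nat_lit 0xb2f9eb7ae) (nat_lit 1027))
 (.leaf (nat_lit 0xb2f9eb851) (nat_lit 771))
)) (.node (nat_lit 0xb2fae74a2) (.node (nat_lit 0xb2fa34f9e) (.leaf (nat_lit 0xb2fa34061) (nat_lit 518))
 (.leaf (nat_lit 0xb2fa34f9e) (nat_lit 774))
) (.node (nat_lit 0xb2fae7b5d) (.leaf (nat_lit 0xb2fae74a2) (nat_lit 1284))
 (.leaf (nat_lit 0xb2fae7b5d) (nat_lit 1028))
))) (.node (nat_lit 0xb2fe24471) (.node (nat_lit 0xb2fdfb3be) (.node (nat_lit 0xb2fd28882) (.leaf (nat_lit 0xb2fd2877d) (nat_lit 1030))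
 (.leaf (nat_lit 0xb2fd28882) (nat_lit 1286))
) (.node (nat_lit 0xb2fdfbc41) (.leaf (nat_lit 0xb2fdfb3be) (nat_lit 1030))
 (.leaf (nat_lit 0xb2fdfbc41) (nat_lit 774))
)) (.node (nat_lit 0xb2fef70b2) (.node (nat_lit 0xb2fe24b8e) (.leaf (nat_lit 0xb2fe24471) (nat_lit 518))
 (.leaf (nat_lit 0xb2fe24b8e) (nat_lit 774))
) (.node (nat_lit 0xb2fef7f4d) (.leaf (nat_lit 0xb2fef70b2) (nat_lit 1030))
 (.leaf (nat_lit 0xb2fef7f4d) (nat_lit 774))
)))))) (.node (nat_lit 0xf2f12708d) (.node (nat_lit 0xc10938452) (.node (nat_lit 0xc105273a2) (.node (nat_lit 0xc1023b4be) (.node (nat_lit 0xc101db34e) (.node (nat_lit 0xc1013784d) (.leaf (nat_lit 0xc101377b2) (nat_lit 513))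
 (.leaf (nat_lit 0xc1013784d) (nat_lit 257))
) (.node (nat_lit 0xc101dbcb1) (.leaf (nat_lit 0xc101db34e) (nat_lit 1027))
 (.leaf (nat_lit 0xc101dbcb1) (nat_lit 771))
)) (.node (nat_lit 0xc102d7042) (.node (nat_lit 0xc1023bb41) (.leaf (nat_lit 0xc1023b4be) (nat_lit 517))
 (.leaf (nat_lit 0xc1023bb41) (nat_lit 261))
) (.node (nat_lit 0xc102d7fbd) (.leaf (nat_lit 0xc102d7042) (nat_lit 1029))
 (.leaf (nat_lit 0xc102d7fbd) (nat_lit 773))
))) (.node (nat_lit 0xc1062b0ae) (.node (nat_lit 0xc105cb75e) (.node (nat_lit 0xc10527c5d) (.leaf (nat_lit 0xc105273a2) (nat_lit 1027))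
 (.leaf (nat_lit 0xc10527c5d) (nat_lit 771))
) (.node (nat_lit 0xc105cb8a1) (.leaf (nat_lit 0xc105cb75e) (nat_lit 1028))
 (.leaf (nat_lit 0xc105cb8a1) (nat_lit 772))
)) (.node (nat_lit 0xc106c7452) (.node (nat_lit 0xc1062bf51) (.leaf (nat_lit 0xc1062b0ae) (nat_lit 1029))
 (.leaf (nat_lit 0xc1062bf51) (nat_lit 773))
) (.node (nat_lit 0xc106c7bad) (.leaf (nat_lit 0xc106c7452) (nat_lit 1029))
 (.leaf (nat_lit 0xc106c7bad) (nat_lit 773))
)))) (.node (nat_lit 0xc10d28042) (.node (nat_lit 0xc10a3475e) (.node (nat_lit 0xc109d40ae) (.node (nat_lit 0xc10938bad) (.leaf (nat_lit 0xc10938452) (nat_lit 773))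
 (.leaf (nat_lit 0xc10938bad) (nat_lit 1029))
) (.node (nat_lit 0xc109d4f51) (.leaf (nat_lit 0xc109d40ae) (nat_lit 1285))
 (.leaf (nat_lit 0xc109d4f51) (nat_lit 1541))
)) (.node (nat_lit 0xc10ad83a2) (.node (nat_lit 0xc10a348a1) (.leaf (nat_lit 0xc10a3475e) (nat_lit 260))
 (.leaf (nat_lit 0xc10a348a1) (nat_lit 516))
) (.node (nat_lit 0xc10ad8c5d) (.leaf (nat_lit 0xc10ad83a2) (nat_lit 771))
 (.leaf (nat_lit 0xc10ad8c5d) (nat_lit 1027))
))) (.node (nat_lit 0xc10e2434e) (.node (nat_lit 0xc10dc44be) (.node (nat_lit 0xc10d28fbd) (.leaf (nat_lit 0xc10d28042) (nat_lit 773))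
 (.leaf (nat_lit 0xc10d28fbd) (nat_lit 1029))
) (.node (nat_lit 0xc10dc4b41) (.leaf (nat_lit 0xc10dc44be) (nat_lit 773))
 (.leaf (nat_lit 0xc10dc4b41) (nat_lit 1029))
)) (.node (nat_lit 0xc10ec87b2) (.node (nat_lit 0xc10e24cb1) (.leaf (nat_lit 0xc10e2434e) (nat_lit 259))
 (.leaf (nat_lit 0xc10e24cb1) (nat_lit 515))
) (.node (nat_lit 0xc10ec884d) (.leaf (nat_lit 0xc10ec87b2) (nat_lit 258))
 (.leaf (nat_lit 0xc10ec884d) (nat_lit 514))
))))) (.node (nat_lit 0xf2f917352) (.node (nat_lit 0xf2f53749d) (.node (nat_lit 0xf2f22b381) (.node (nat_lit 0xf2f1f444e) (.node (nat_lit 0xf2f127f72) (.leaf (nat_lit 0xf2f12708d) (nat_lit 774))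
 (.leaf (nat_lit 0xf2f127f72) (nat_lit 1030))
) (.node (nat_lit 0xf2f1f4bb1) (.leaf (nat_lit 0xf2f1f444e) (nat_lit 1287))
 (.leaf (nat_lit 0xf2f1f4bb1) (nat_lit 1031))
)) (.node (nat_lit 0xf2f2f8742) (.node (nat_lit 0xf2f22bc7e) (.leaf (nat_lit 0xf2f22b381) (nat_lit 519))
 (.leaf (nat_lit 0xf2f22bc7e) (nat_lit 775))
) (.node (nat_lit 0xf2f2f88bd) (.leaf (nat_lit 0xf2f2f8742) (nat_lit 1286))
 (.leaf (nat_lit 0xf2f2f88bd) (nat_lit 1030))
))) (.node (nat_lit 0xf2f63b791) (.node (nat_lit 0xf2f5e405e) (.node (nat_lit 0xf2f537b62) (.leaf (nat_lit 0xf2f53749d) (nat_lit 774))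
 (.leaf (nat_lit 0xf2f537b62) (nat_lit 1030))
) (.node (nat_lit 0xf2f5e4fa1) (.leaf (nat_lit 0xf2f5e405e) (nat_lit 1284))
 (.leaf (nat_lit 0xf2f5e4fa1) (nat_lit 1028))
)) (.node (nat_lit 0xf2f6e8352) (.node (nat_lit 0xf2f63b86e) (.leaf (nat_lit 0xf2f63b791) (nat_lit 1025))
 (.leaf (nat_lit 0xf2f63b86e) (nat_lit 1281))
) (.node (nat_lit 0xf2f6e8cad) (.leaf (nat_lit 0xf2f6e8352) (nat_lit 1028))
 (.leaf (nat_lit 0xf2f6e8cad) (nat_lit 772))
)))) (.node (nat_lit 0xf2fd07742) (.node (nat_lit 0xf2fa1b05e) (.node (nat_lit 0xf2f9c4791) (.node (nat_lit 0xf2f917cad) (.leaf (nat_lit 0xf2f917352) (nat_lit 1030))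
 (.leaf (nat_lit 0xf2f917cad) (nat_lit 1286))
) (.node (nat_lit 0xf2f9c486e) (.leaf (nat_lit 0xf2f9c4791) (nat_lit 1282))
 (.leaf (nat_lit 0xf2f9c486e) (nat_lit 1026))
)) (.node (nat_lit 0xf2fac849d) (.node (nat_lit 0xf2fa1bfa1) (.leaf (nat_lit 0xf2fa1b05e) (nat_lit 775))
 (.leaf (nat_lit 0xf2fa1bfa1) (nat_lit 1031))
) (.node (nat_lit 0xf2fac8b62) (.leaf (nat_lit 0xf2fac849d) (nat_lit 1030))
 (.leaf (nat_lit 0xf2fac8b62) (nat_lit 774))
))) (.node (nat_lit 0xf2fe0b44e) (.node (nat_lit 0xf2fdd4381) (.node (nat_lit 0xf2fd078bd) (.leaf (nat_lit 0xf2fd07742) (nat_lit 771))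
 (.leaf (nat_lit 0xf2fd078bd) (nat_lit 1027))
) (.node (nat_lit 0xf2fdd4c7e) (.leaf (nat_lit 0xf2fdd4381) (nat_lit 1287))
 (.leaf (nat_lit 0xf2fdd4c7e) (nat_lit 1031))
)) (.node (nat_lit 0xf2fed808d) (.node (nat_lit 0xf2fe0bbb1) (.leaf (nat_lit 0xf2fe0b44e) (nat_lit 775))
 (.leaf (nat_lit 0xf2fe0bbb1) (nat_lit 1031))
) (.node (nat_lit 0xf2fed8f72) (.leaf (nat_lit 0xf2fed808d) (nat_lit 1030))
 (.leaf (nat_lit 0xf2fed8f72) (nat_lit 774))
))))))))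

theorem SS_ok : genOK B6.A [(nat_lit 0x810204f7e), (nat_lit 0xc1013784d), (nat_lit 0xc10ec87b2), (nat_lit 0xc10e2434e), (nat_lit 0xc10a3475e), (nat_lit 0xc1023bb41), (nat_lit 0xb2f2043be), (nat_lit 0x3d02140be)] SS_t (nat_lit 256) = true := by decide +kernel

end Cfsg.Agent.StC
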