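import Mathlib
import Cfsg.Agent.StC.IIT

/-! Generated by tools/rec: the letter c replaced by e c -/

set_option autoImplicit false
set_option maxRecDepth 100000
set_option linter.unusedVariables false
set_option exponentiation.threshold 100000

namespace Cfsg.Agent.StC

open Cfsg.Agent.Spor Cfsg.Agent.Rec Cfsg.Agent.Rec.Y3

universe u

noncomputable def tw_rels : LT :=
(.node (.node (.node (.node (.node (.leaf [])
 (.leaf [nat_lit 7,nat_lit 6,nat_lit 7,nat_lit 6,nat_lit 5])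
) (.node (.leaf [nat_lit 7,nat_lit 7])
 (.leaf [nat_lit 0,nat_lit 10,nat_lit 0,nat_lit 11])
)) (.node (.node (.leaf [nat_lit 3,nat_lit 4])
 (.leaf [nat_lit 0,nat_lit 3,nat_lit 0,nat_lit 4])
) (.leaf [nat_lit 11,nat_lit 10])
)) (.node (.node (.node (.leaf [nat_lit 1,nat_lit 2])
 (.leaf [nat_lit 7,nat_lit 10,nat_lit 7,nat_lit 11])
) (.leaf [nat_lit 9,nat_lit 8])
) (.node (.node (.leaf [nat_lit 5,nat_lit 5])
 (.leaf [nat_lit 0,nat_lit 6,nat_lit 0,nat_lit 6])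
) (.leaf [nat_lit 7,nat_lit 3,nat_lit 7,nat_lit 3,nat_lit 2,nat_lit 2])
))) (.node (.node (.node (.node (.leaf [nat_lit 0,nat_lit 0])
 (.leaf [nat_lit 7,nat_lit 8,nat_lit 7,nat_lit 8,nat_lit 5,nat_lit 1])
) (.node (.leaf [nat_lit 8,nat_lit 9])
 (.leaf [nat_lit 0,nat_lit 7,nat_lit 0,nat_lit 7])
)) (.node (.node (.leaf [nat_lit 4,nat_lit 3])
 (.leaf [nat_lit 0,nat_lit 5,nat_lit 0,nat_lit 5])
) (.leaf [nat_lit 7,nat_lit 1,nat_lit 7,nat_lit 4,nat_lit 4,nat_lit 2])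
)) (.node (.node (.node (.leaf [nat_lit 2,nat_lit 1])
 (.leaf [nat_lit 0,nat_lit 1,nat_lit 0,nat_lit 2])
) (.leaf [nat_lit 10,nat_lit 11])
) (.node (.node (.leaf [nat_lit 6,nat_lit 6])
 (.leaf [nat_lit 0,nat_lit 8,nat_lit 0,nat_lit 9])
) (.leaf [nat_lit 7,nat_lit 5,nat_lit 7,nat_lit 5])
))))
noncomputable def tw_inv : ℕ → ℕ := getP (nat_lit 8) (nat_lit 255) (nat_lit 0xa0b08090706050304010200)

noncomputable def tw_t : BT :=
(.node (.node (.node (.node (.leaf (nat_lit 0x3ff80003fc0207d901ffc003ff8007ff0000673040ca803ff80002b802055101ffc00011341021700ffe001ffc0000c241017500ffe001ffc003ff80000b202014500014408020c00010020001))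
 (.leaf (nat_lit 0x3ff8007ff000ffe001ffc003ff801037b00ffe001ffc003ff8007ff000ffe001ffc003ff8007ff000ffe001ffc003ff8007ff000ffe001ffc003ff8007ff000ffe001ffc008184c07ff000ffe0))
) (.node (.leaf (nat_lit 0x3ff8007ff000ffe001ffc003ff8007ff000ffe001ffc003ff8007ff000ffe001ffc003ff8007ff00003ab01ffc0640c8c0016100ffe004045008079c07ff000ffe001ffc003ff8007ff000ffe0))
 (.leaf (nat_lit 0x3ff8007ff000ffe001ffc003ff8007ff000ffe001ffc003ff8007ff000ffe001ffc003ff8007ff000ffe001ffc003ff8007ff000ffe001ffc003ff8007ff000ffe001ffc003ff8007ff000ffe0))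
)) (.node (.node (.leaf (nat_lit 0x3ff8007ff000ffe001ffc003ff8007ff000ffe001ffc003ff8007ff000ffe001ffc003ff8007ff02103c801ffc003ff8007ff011026001ffc003ff80480c180012201ffc003ff8007ff000ffe0))
 (.leaf (nat_lit 0x3ff8007ff000ffe001ffc003ff8007ff000ffe001ffc003ff8007ff000ffe001ffc003ff8007ff000ffe001ffc003ff8007ff000ffe001ffc003ff8007ff000ffe001ffc0081e6007ff000ffe0))
) (.leaf (nat_lit 0x3ff8007ff000ffe001ffc003ff8007ff000ffe001ffc10417bdc82c180052201ffc003ff8007ff000ffe001ffc003ff8007ff000ffe001ffc003ff8007ff000ffe001ffc008144007ff000ffe0))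
)) (.node (.node (.node (.leaf (nat_lit 0x3ff8007ff000ffe0a20ec003ff8007ff000ffe001ffc003ff8007ff000ffe001ffc003ff8007ff000ffe001ffc003ff8007ff000ffe001ffc003ff8007ff000ffe001ffc008041007ff0000288))
 (.leaf (nat_lit 0x3ff8007ff000ffe001ffc0001c5407ff0490683000c4403ff8007ff000ffe001ffc003ff8007ff000ffe001ffc003ff8007ff000ffe001ffc003ff8007ff000ffe001ffc003ff8007ff000ffe0))
) (.node (.leaf (nat_lit 0x3ff8007ff000ffe0000eac081cdc07ff000ffe001ffc003ff8007ff000ffe0620980a4118c0020100ffe001ffc003ff8007ff000ffe001ffc003ff8007ff000ffe001ffc0080fb407ff00004ef))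
 (.leaf (nat_lit 0x283e40400c00614201c16c0304540507a00801300c2040283c4040080060c20141dc0200340305100c06b0141d40200240303100e08701810c0283940400200602200c00401038401000000000))
)) (.node (.node (.leaf (nat_lit 0x3ff8007ff000ffe001ffc003ff8007ff000ffe001ffc003ff8007ff000ffe001ffc003ff8007ff000ffe004071803ff8007ff000024700040c03ff8007ff000ffe001ffc0080aa407ff000ffe0))
 (.leaf (nat_lit 0x1842182c84018007a201ffc003ff8007ff000ffe001ffc003ff8007ff000ffe001ffc003ff8007ff000ffe001ffc003ff8007ff000ffe001ffc003ff8007ff000ffe001ffc003ff8007ff000ffe0))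
) (.leaf (nat_lit 0x21641041d00ffe001ffc003ff800036a0206b501ffc0001744102d900ffe000095c08123c07ff000ffe00006d4080d2c07ff000ffe001ffc0000714100d300ffe0020180000184100210000e3))
)))

noncomputable def tw_rules : LT :=
(.node (.node (.node (.node (.leaf [nat_lit 25,nat_lit 2,nat_lit 1,nat_lit 7,nat_lit 0,nat_lit 7,nat_lit 0])
 (.leaf [nat_lit 16,nat_lit 1,nat_lit 1,nat_lit 6,nat_lit 7,nat_lit 6,nat_lit 7,nat_lit 5])
) (.node (.leaf [nat_lit 14,nat_lit 1,nat_lit 1,nat_lit 2,nat_lit 4,nat_lit 7,nat_lit 4,nat_lit 7,nat_lit 1])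
 (.leaf [nat_lit 18,nat_lit 0,nat_lit 1,nat_lit 11,nat_lit 7,nat_lit 11,nat_lit 7])
)) (.node (.node (.leaf [nat_lit 13,nat_lit 0,nat_lit 1,nat_lit 2,nat_lit 3,nat_lit 3,nat_lit 7,nat_lit 2,nat_lit 7])
 (.leaf [nat_lit 17,nat_lit 0,nat_lit 1,nat_lit 1,nat_lit 5,nat_lit 9,nat_lit 7,nat_lit 9,nat_lit 7])
) (.leaf [nat_lit 15,nat_lit 2,nat_lit 1,nat_lit 5,nat_lit 7,nat_lit 5,nat_lit 7])
)) (.node (.node (.node (.leaf [nat_lit 19,nat_lit 0,nat_lit 1,nat_lit 2,nat_lit 0,nat_lit 2,nat_lit 0])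
 (.leaf [nat_lit 23,nat_lit 0,nat_lit 1,nat_lit 9,nat_lit 0,nat_lit 9,nat_lit 0])
) (.leaf [nat_lit 21,nat_lit 2,nat_lit 1,nat_lit 5,nat_lit 0,nat_lit 5,nat_lit 0])
) (.node (.node (.leaf [nat_lit 20,nat_lit 0,nat_lit 1,nat_lit 4,nat_lit 0,nat_lit 4,nat_lit 0])
 (.leaf [nat_lit 24,nat_lit 0,nat_lit 1,nat_lit 11,nat_lit 0,nat_lit 11,nat_lit 0])
) (.leaf [nat_lit 22,nat_lit 2,nat_lit 1,nat_lit 6,nat_lit 0,nat_lit 6,nat_lit 0])
)))

noncomputable def tw : TC :=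
  ⟨fun x c => Nat.shiftRight (BT.get tw_t x) (Nat.mul (nat_lit 23) c),
  (nat_lit 5), (nat_lit 31), (nat_lit 65535), (nat_lit 16), (nat_lit 127), (nat_lit 65504), (nat_lit 1), (nat_lit 27), (nat_lit 12), (nat_lit 0), (nat_lit 12), (nat_lit 13), tw_inv, tw_rules, (.leaf [nat_lit 0,nat_lit 0,nat_lit 0,nat_lit 12])⟩

theorem tw_imp : Imp.{u} rel0 [[0, 7, 0, 7], [0, 7, 1, 0, 7, 4, 4, 2], [0, 7, 3, 0, 7, 3, 2, 2], [0, 7, 5, 0, 7, 5], [0, 7, 6, 0, 7, 6, 5], [0, 7, 8, 0, 7, 8, 5, 1], [0, 7, 10, 0, 7, 11], [0, 0, 7, 0, 0, 7]] :=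
  (imp_of tw tw_rels (by decide +kernel))

end Cfsg.Agent.StC
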